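import Groth.Agent.Unirat.Ratl
import Groth.Agent.DivDescMod.AffineOpen
import Groth.Agent.PicRelBC.Basic
import Groth.Agent.SubGen.AlgClosed
import Groth.Prelude.Def_AlgGrp
import Groth.Agent.S7819

/-!
# Connected linear groups act trivially on Picard groups of normal varieties
-/

set_option autoImplicit false
set_option linter.style.haveILetI false
set_option linter.unusedSectionVars false
set_option backward.isDefEq.respectTransparency false
set_option maxHeartbeats 1000000
set_option synthInstance.maxHeartbeats 400000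

universe u

open CategoryTheory CategoryTheory.Limits MonoidalCategory CartesianMonoidalCategory MonObj GrpObj AlgebraicGeometry
open Groth.Agent.SubGen (rpt exists_rpt map_rpt)

noncomputable section

namespace Groth.Agent.Unirat

variable {k : Type u} [Field k] [IsAlgClosed k]

/-- A nonempty open set contains a rational point. -/
theorem exists_rp_mem_open {Y : Over (Spec (CommRingCat.of k))} [LocallyOfFiniteType Y.hom] (W : Y.left.Opens)
    (hW : (W : Set Y.left).Nonempty) : ∃ q : 𝟙_ (Over (Spec (CommRingCat.of k))) ⟶ Y, rpt q ∈ W := by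
  haveI : JacobsonSpace Y.left := LocallyOfFiniteType.jacobsonSpace Y.hom
  obtain ⟨z, hz, hzc⟩ := nonempty_inter_closedPoints (Z := (W : Set Y.left)) hW W.2.isLocallyClosed
  obtain ⟨q, rfl⟩ := exists_rpt hzc
  exact ⟨q, hz⟩

variable {G X : Over (Spec (CommRingCat.of k))} [GrpObj G]

/-- The translation by a rational point. -/
abbrev transl (a : AlgGrp.Action G X) (g : 𝟙_ (Over (Spec (CommRingCat.of k))) ⟶ G) : X ⟶ X :=
  lift (toUnit X ≫ g) (𝟙 X) ≫ a.act

omit [IsAlgClosed k] in
theorem transl_one (a : AlgGrp.Action G X) : transl a 1 = 𝟙 X := by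
  rw [transl, Hom.one_def, show toUnit (𝟙_ (Over (Spec (CommRingCat.of k)))) = 𝟙 _ from toUnit_unique _ _,
    Category.id_comp, show lift (toUnit X ≫ η[G]) (𝟙 X) = lift (toUnit X) (𝟙 X) ≫ (η[G] ▷ X) from
      (lift_whiskerRight _ _ _).symm, Category.assoc, a.one_act, lift_leftUnitor_hom]

omit [IsAlgClosed k] in
theorem transl_mul (a : AlgGrp.Action G X) (g h : 𝟙_ (Over (Spec (CommRingCat.of k))) ⟶ G) :
    transl a (g * h) = transl a h ≫ transl a g := by
  have e : transl a h ≫ lift (toUnit X ≫ g) (𝟙 X) = lift (toUnit X ≫ g) (transl a h) := by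
    rw [comp_lift, Category.comp_id, ← Category.assoc, toUnit_unique (transl a h ≫ toUnit X) (toUnit X)]
  rw [show transl a h ≫ transl a g = (transl a h ≫ lift (toUnit X ≫ g) (𝟙 X)) ≫ a.act from
    (Category.assoc _ _ _).symm, e, transl, MonObj.comp_mul, Hom.mul_def, ← lift_whiskerRight, Category.assoc,
    a.mul_act, lift_lift_associator_hom_assoc, lift_whiskerLeft_assoc]

/-- **Connected linear groups fix the Picard group of a normal variety.** -/
theorem pullCl_transl [IsAffine G.left] [Smooth G.hom] [ConnectedSpace G.left]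
    [IsIntegral X.left] [LocallyOfFiniteType X.hom] [QuasiCompact X.hom]
    (hX : Pi1.IsNormalScheme X.left) (a : AlgGrp.Action G X)
    (g : 𝟙_ (Over (Spec (CommRingCat.of k))) ⟶ G) (c : PicF.Cl X.left) (hc : PicF.IsInvertibleCl c) :
    PicF.pullCl (transl a g).left c = c := by
  haveI : IsAffineHom G.hom := isAffineHom_of_isAffine _
  haveI : IrreducibleSpace G.left := SemiCont.irreducibleSpace_of_smooth G
  haveI : IsLocallyNoetherian X.left := LocallyOfFiniteType.isLocallyNoetherian X.hom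
  haveI : CompactSpace X.left := QuasiCompact.compactSpace_of_compactSpace X.hom
  haveI : IsNoetherian X.left := ⟨⟩
  obtain ⟨U, n, V, e, hUne, he⟩ := exists_opens_iso (ratl_group G)
  let S := Spec (CommRingCat.of k)
  let π : (V : Scheme.{u}) ⟶ S := V.ι ≫ (𝔸(ULift.{u} (Fin n); S) ↘ S)
  let ιU : (V : Scheme.{u}) ⟶ G.left := e.inv ≫ U.ι
  have hι : ιU ≫ G.hom = π := by rw [Category.assoc, ← he, e.inv_hom_id_assoc]
  haveI : IsIso e.hom := inferInstance
  -- points of `V` from points of `U`
  have hpts : ∀ q : 𝟙_ (Over S) ⟶ G, rpt q ∈ U → ∃ u : S ⟶ (V : Scheme.{u}), u ≫ π = 𝟙 S ∧ u ≫ ιU = q.left := by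
    intro q hq
    haveI : Subsingleton ↥(𝟙_ (Over S)).left := inferInstanceAs (Subsingleton (PrimeSpectrum k))
    have hr : Set.range q.left ⊆ Set.range U.ι := by
      rintro _ ⟨t, rfl⟩
      rw [Scheme.Opens.range_ι, SubGen.apply_eq_rpt]
      exact hq
    refine ⟨IsOpenImmersion.lift U.ι q.left hr ≫ e.hom, ?_, ?_⟩
    · rw [Category.assoc, he, IsOpenImmersion.lift_fac_assoc]
      exact Over.w q
    · rw [Category.assoc, e.hom_inv_id_assoc, IsOpenImmersion.lift_fac]
  obtain ⟨q₀, hq₀⟩ := exists_rp_mem_open U hUne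
  obtain ⟨u₀, hu₀, -⟩ := hpts q₀ hq₀
  -- the family of translates
  let P : Over S := Over.mk (pullback.fst X.hom π ≫ X.hom)
  let pG : P ⟶ G := Over.homMk (pullback.snd X.hom π ≫ ιU) (by
    show (pullback.snd X.hom π ≫ ιU) ≫ G.hom = _
    rw [Category.assoc, hι, ← pullback.condition]
    rfl)
  let pX : P ⟶ X := Over.homMk (pullback.fst X.hom π) rfl
  let m : P ⟶ X := lift pG pX ≫ a.act
  obtain ⟨c₀, ⟨hc₀, hc₀m⟩, -⟩ := Groth.Agent.S7819.result S n V u₀ hu₀ X.hom hX (PicF.pullCl m.left c)
    (PicRelBC.isInvertibleCl_pullCl _ hc)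
  have hconst : ∀ q : 𝟙_ (Over S) ⟶ G, rpt q ∈ U → PicF.pullCl (transl a q).left c = c₀ := by
    intro q hq
    obtain ⟨u, hu, huq⟩ := hpts q hq
    let σ : X ⟶ P := Over.homMk (pullback.lift (𝟙 X.left) (X.hom ≫ u) (by
      rw [Category.assoc, hu, Category.comp_id, Category.id_comp])) (by
      show pullback.lift _ _ _ ≫ pullback.fst X.hom π ≫ X.hom = X.hom
      rw [pullback.lift_fst_assoc, Category.id_comp])
    have h1 : σ ≫ m = transl a q := by
      rw [transl, ← Category.assoc]
      congr 1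
      refine CartesianMonoidalCategory.hom_ext _ _ ?_ ?_
      · rw [Category.assoc, lift_fst, lift_fst]
        refine Over.OverMorphism.ext ?_
        show pullback.lift _ _ _ ≫ pullback.snd X.hom π ≫ ιU = X.hom ≫ q.left
        rw [pullback.lift_snd_assoc, Category.assoc, huq]
      · rw [Category.assoc, lift_snd, lift_snd]
        exact Over.OverMorphism.ext (pullback.lift_fst _ _ _)
    rw [← h1, Over.comp_left, PicRelBC.pullCl_comp, ← hc₀m, ← PicRelBC.pullCl_comp,
      show σ.left ≫ pullback.fst X.hom π = 𝟙 X.left from pullback.lift_fst _ _ _, PicRelBC.pullCl_id]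
  -- a point of `U` moved into `U`
  let lg : G ⟶ G := (toUnit G ≫ g) * 𝟙 G
  obtain ⟨h, hh₁, hh₂⟩ : ∃ h : 𝟙_ (Over S) ⟶ G, rpt h ∈ U ∧ rpt (g * h) ∈ U := by
    haveI : IsIso lg := ⟨(toUnit G ≫ g⁻¹) * 𝟙 G, by
        simp only [lg, MonObj.comp_mul, Category.comp_id]
        rw [← Category.assoc, toUnit_unique (lg ≫ toUnit G) (toUnit G), GrpObj.comp_inv, inv_mul_cancel_left],
      by
        simp only [lg, MonObj.comp_mul, Category.comp_id]
        rw [← Category.assoc, toUnit_unique (_ ≫ toUnit G) (toUnit G), GrpObj.comp_inv, mul_inv_cancel_left]⟩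
    haveI : IsIso lg.left := inferInstanceAs (IsIso ((Over.forget _).map lg))
    have hne : ((lg.left ⁻¹ᵁ U : G.left.Opens) : Set G.left).Nonempty := by
      obtain ⟨x, hx⟩ := hUne
      obtain ⟨y, rfl⟩ := lg.left.surjective x
      exact ⟨y, hx⟩
    obtain ⟨h, hh⟩ := exists_rp_mem_open (U ⊓ lg.left ⁻¹ᵁ U)
      (nonempty_preirreducible_inter U.2 (lg.left ⁻¹ᵁ U).2 hUne hne)
    refine ⟨h, hh.1, ?_⟩
    have : lg.left (rpt h) ∈ U := hh.2
    rw [map_rpt] at this
    rwa [show h ≫ lg = g * h by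
      simp only [lg, MonObj.comp_mul, Category.comp_id]
      rw [← Category.assoc, toUnit_unique (h ≫ toUnit G) (𝟙 _), Category.id_comp]] at this
  have key := hconst (g * h) hh₂
  rw [← hconst h hh₁, transl_mul, Over.comp_left, PicRelBC.pullCl_comp] at key
  have h2 := congrArg (PicF.pullCl (transl a h⁻¹).left) key
  rwa [← PicRelBC.pullCl_comp, ← PicRelBC.pullCl_comp (transl a h⁻¹).left, ← Over.comp_left, ← transl_mul,
    mul_inv_cancel, transl_one, Over.id_left, PicRelBC.pullCl_id, PicRelBC.pullCl_id] at h2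

end Groth.Agent.Unirat
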