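import Groth.Agent.Unirat.PicTransl
import Groth.Agent.DivDescMod.Module
import Groth.Agent.W7Cube.Pic
import Groth.Agent.PicProper.LineCore
import Groth.Agent.Chev.Divisor
import Groth.Agent.GrpField.AbelianField

/-!
# The obstruction to equivariance of a power of an invertible module
-/

set_option autoImplicit false
set_option linter.style.haveILetI false
set_option linter.unusedSectionVars false
set_option backward.isDefEq.respectTransparency false
set_option maxHeartbeats 1000000
set_option synthInstance.maxHeartbeats 400000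

universe u

open CategoryTheory CategoryTheory.Limits MonoidalCategory CartesianMonoidalCategory AlgebraicGeometry
open Groth.Agent.SubGen (rpt exists_rpt map_rpt)
open Groth.Agent.W7Cube (pullMul)
open PicGrp (pullHom)

noncomputable section

namespace Groth.Agent.Unirat

variable {k : Type u} [Field k] [IsAlgClosed k] {G X : Over (Spec (CommRingCat.of k))} [GrpObj G]

/-- The difference of the two inverse images on `G × X` of a class on `X` comes from `G`. -/
theorem exists_eq_pull_fst [IsAffine G.left] [Smooth G.hom] [ConnectedSpace G.left]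
    [IsIntegral X.left] [LocallyOfFiniteType X.hom] [QuasiCompact X.hom]
    (hX : Pi1.IsNormalScheme X.left) (a : AlgGrp.Action G X)
    [PicGrp.Law G.left] [PicGrp.Law X.left] [PicGrp.Law (G ⊗ X).left] (c : PicLoc.PicSet X.left) :
    ∃ M : PicLoc.PicSet G.left, pullHom a.act.left (pullMul _) c =
      pullHom (fst G X).left (pullMul _) M * pullHom (snd G X).left (pullMul _) c := by
  haveI : IsAffineHom G.hom := isAffineHom_of_isAffine _
  haveI : IrreducibleSpace G.left := SemiCont.irreducibleSpace_of_smooth G
  haveI : IsIntegral G.left := by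
    haveI : IsReduced G.left := SmoothRed.isReduced_of_smooth_scheme G.hom
    exact isIntegral_of_irreducibleSpace_of_isReduced G.left
  haveI : IsLocallyNoetherian X.left := LocallyOfFiniteType.isLocallyNoetherian X.hom
  haveI : CompactSpace X.left := QuasiCompact.compactSpace_of_compactSpace X.hom
  haveI : IsNoetherian X.left := ⟨⟩
  haveI : GeometricallyIntegral X.hom := PicProper.geometricallyIntegral X.hom
  let S := Spec (CommRingCat.of k)
  set d : PicLoc.PicSet (G ⊗ X).left :=
    pullHom a.act.left (pullMul _) c * (pullHom (snd G X).left (pullMul _) c)⁻¹ with hd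
  obtain ⟨U, n, V, e, hUne, he⟩ := exists_opens_iso (ratl_group G)
  let π : (V : Scheme.{u}) ⟶ S := V.ι ≫ (𝔸(ULift.{u} (Fin n); S) ↘ S)
  let ιU : (V : Scheme.{u}) ⟶ G.left := e.inv ≫ U.ι
  haveI : IsIso e.inv := inferInstance
  haveI : IsOpenImmersion ιU := inferInstance
  have hrange : Set.range ιU = (U : Set G.left) := by
    rw [Scheme.Hom.comp_base, TopCat.coe_comp, Set.range_comp, Set.range_eq_univ.2 e.inv.surjective, Set.image_univ,
      Scheme.Opens.range_ι]
  have hι : ιU ≫ G.hom = π := by rw [Category.assoc, ← he, e.inv_hom_id_assoc]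
  obtain ⟨q, hq⟩ := exists_rp_mem_open U hUne
  haveI : Subsingleton ↥(𝟙_ (Over S)).left := inferInstanceAs (Subsingleton (PrimeSpectrum k))
  have hqr : Set.range q.left ⊆ Set.range ιU := by
    rintro _ ⟨t, rfl⟩
    rw [hrange, SubGen.apply_eq_rpt]
    exact hq
  let u : S ⟶ (V : Scheme.{u}) := IsOpenImmersion.lift ιU q.left hqr
  have huq : u ≫ ιU = q.left := IsOpenImmersion.lift_fac _ _ _
  have hu : u ≫ π = 𝟙 S := by
    rw [← hι, ← Category.assoc, huq]
    exact Over.w q
  -- the restriction to the open set is trivial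
  let P : Over S := Over.mk (pullback.fst X.hom π ≫ X.hom)
  let pG : P ⟶ G := Over.homMk (pullback.snd X.hom π ≫ ιU) (by
    show (pullback.snd X.hom π ≫ ιU) ≫ G.hom = _
    rw [Category.assoc, hι, ← pullback.condition]
    rfl)
  let pX : P ⟶ X := Over.homMk (pullback.fst X.hom π) rfl
  let j : P ⟶ G ⊗ X := lift pG pX
  letI L₁ : PicGrp.Law (pullback X.hom π) := W7Cube.law _
  letI : PicGrp.Law P.left := L₁
  obtain ⟨c₀, ⟨hc₀, hc₀j⟩, -⟩ := Groth.Agent.S7819.result S n V u hu X.hom hX (pullHom j.left (pullMul _) d).1
    (pullHom j.left (pullMul _) d).2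
  let σ : X ⟶ P := Over.homMk (pullback.lift (𝟙 X.left) (X.hom ≫ u) (by
    rw [Category.assoc, hu, Category.comp_id, Category.id_comp])) (by
    show pullback.lift _ _ _ ≫ pullback.fst X.hom π ≫ X.hom = X.hom
    rw [pullback.lift_fst_assoc, Category.id_comp])
  have hσj : σ ≫ j = lift (toUnit X ≫ q) (𝟙 X) := by
    refine CartesianMonoidalCategory.hom_ext _ _ ?_ ?_
    · rw [Category.assoc, lift_fst, lift_fst]
      refine Over.OverMorphism.ext ?_
      show pullback.lift _ _ _ ≫ pullback.snd X.hom π ≫ ιU = X.hom ≫ q.left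
      rw [pullback.lift_snd_assoc, Category.assoc, huq]
    · rw [Category.assoc, lift_snd, lift_snd]
      exact Over.OverMorphism.ext (pullback.lift_fst _ _ _)
  have hσd : pullHom σ.left (pullMul _) (pullHom j.left (pullMul _) d) = 1 := by
    have h : ∀ (f : G ⊗ X ⟶ X) (g : X ⟶ X), lift (toUnit X ≫ q) (𝟙 X) ≫ f = g →
        pullHom σ.left (pullMul _) (pullHom j.left (pullMul _) (pullHom f.left (pullMul _) c)) =
          pullHom g.left (pullMul _) c := by
      intro f g hfg
      apply Subtype.ext
      show PicF.pullCl σ.left (PicF.pullCl j.left (PicF.pullCl f.left c.1)) = PicF.pullCl g.left c.1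
      rw [← PicRelBC.pullCl_comp, ← PicRelBC.pullCl_comp, ← Over.comp_left, ← Over.comp_left, ← hfg, ← hσj,
        Category.assoc]
    rw [hd, map_mul, map_mul, map_inv, map_inv, h a.act (transl a q) rfl, h (snd G X) (𝟙 X) (lift_snd _ _),
      mul_inv_eq_one]
    apply Subtype.ext
    show PicF.pullCl (transl a q).left c.1 = PicF.pullCl (𝟙 X.left) c.1
    rw [pullCl_transl hX a q c.1 c.2, PicRelBC.pullCl_id]
  have hjd : pullHom j.left (pullMul _) d = 1 := by
    have h1 : c₀ = (1 : PicLoc.PicSet X.left).1 := by
      have := congrArg Subtype.val hσd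
      change PicF.pullCl σ.left (pullHom j.left (pullMul _) d).1 = _ at this
      rwa [← hc₀j, ← PicRelBC.pullCl_comp,
        show σ.left ≫ pullback.fst X.hom π = 𝟙 X.left from pullback.lift_fst _ _ _, PicRelBC.pullCl_id] at this
    apply Subtype.ext
    rw [← hc₀j, h1]
    show (pullHom (pullback.fst X.hom π : P.left ⟶ X.left) (pullMul _) (1 : PicLoc.PicSet X.left)).1 = _
    rw [map_one]
  -- the descent to `G`
  obtain ⟨L, hL, hLd⟩ := PicGrp.exists_eq_cls d
  let f : (G ⊗ X).left ⟶ G.left := pullback.fst G.hom X.hom
  haveI : Surjective X.hom := ⟨fun s => ⟨Classical.arbitrary _, Subsingleton.elim (α := PrimeSpectrum k) _ _⟩⟩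
  haveI : Surjective f := inferInstance
  haveI : Flat f := inferInstance
  haveI : QuasiCompact f := inferInstance
  haveI : GeometricallyIntegral f := inferInstance
  have hΦ : ∀ η : G.left, GoingDown.IsMaximalPt η →
      Nonempty ((Scheme.Modules.pullback (f.fiberι η)).obj L ≅ Coh.structureModule (f.fiber η)) := by
    intro η hη
    have hηU : η ∈ U := by
      obtain ⟨x, hx⟩ := hUne
      have h1 : genericPoint G.left = η := hη _ (genericPoint_specializes η)
      rw [← h1]
      exact (genericPoint_specializes x).mem_open U.2 hx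
    have hr : Set.range (G.left.fromSpecResidueField η) ⊆ Set.range ιU := by
      rw [hrange, Scheme.range_fromSpecResidueField]
      exact Set.singleton_subset_iff.2 hηU
    let t := IsOpenImmersion.lift ιU (G.left.fromSpecResidueField η) hr
    let m : f.fiber η ⟶ P.left := pullback.lift (f.fiberι η ≫ pullback.snd G.hom X.hom)
      (pullback.snd f (G.left.fromSpecResidueField η) ≫ t) (by
      rw [Category.assoc, Category.assoc, ← hι, IsOpenImmersion.lift_fac_assoc, ← pullback.condition]
      rw [← Category.assoc (pullback.snd f _), ← pullback.condition, Category.assoc]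
      rfl)
    have hm : m ≫ j.left = f.fiberι η := by
      refine pullback.hom_ext ?_ ?_
      · rw [Category.assoc, show j.left ≫ pullback.fst G.hom X.hom = pG.left from
          congrArg CommaMorphism.left (lift_fst pG pX)]
        show pullback.lift _ _ _ ≫ pullback.snd X.hom π ≫ ιU = _
        rw [pullback.lift_snd_assoc, Category.assoc, IsOpenImmersion.lift_fac]
        exact pullback.condition.symm
      · rw [Category.assoc, show j.left ≫ pullback.snd G.hom X.hom = pX.left from
          congrArg CommaMorphism.left (lift_snd pG pX)]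
        exact pullback.lift_fst _ _ _
    letI := W7Cube.law (f.fiber η)
    have h2 : pullHom (f.fiberι η) (pullMul _) d = 1 := by
      have h3 := congrArg (pullHom m (pullMul _)) hjd
      rw [map_one] at h3
      rw [← h3]
      apply Subtype.ext
      show PicF.pullCl (f.fiberι η) d.1 = PicF.pullCl m (PicF.pullCl j.left d.1)
      rw [← PicRelBC.pullCl_comp, hm]
    rw [hLd, PicGrp.pullHom_cls, PicGrp.one_eq_unitPicSet] at h2
    exact (PicGrp.cls_eq_cls_iff (PicLoc.isInvertible_pullback _ hL) (PicLoc.isInvertible_structureModule _)).1 h2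
  haveI : IsLocallyNoetherian (G ⊗ X).left := by
    haveI : LocallyOfFiniteType (G ⊗ X).hom := inferInstanceAs (LocallyOfFiniteType (pullback.fst G.hom X.hom ≫ G.hom))
    exact LocallyOfFiniteType.isLocallyNoetherian (G ⊗ X).hom
  haveI : IsLocallyNoetherian G.left := LocallyOfFiniteType.isLocallyNoetherian G.hom
  obtain ⟨M, hM, ⟨eM⟩⟩ := DivDescMod.exists_invertible (f := f) (Or.inl inferInstance) Chev.isNormal
    (fun y _ => inferInstance) hL (fun η hη => (hΦ η hη).some)
  refine ⟨PicGrp.cls M hM, ?_⟩
  have h4 : pullHom (fst G X).left (pullMul _) (PicGrp.cls M hM) = d := by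
    rw [hLd, PicGrp.pullHom_cls]
    exact (PicGrp.cls_eq_cls_iff _ _).2 ⟨eM⟩
  rw [h4, hd, inv_mul_cancel_right]

end Groth.Agent.Unirat
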