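import Groth.Agent.Unirat.Main
import Groth.Agent.RootBase.Cell
import Groth.Agent.MTBridge.Charts

/-!
# Rationality of connected linear groups over algebraically closed fields
-/

set_option autoImplicit false
set_option linter.style.haveILetI false
set_option linter.unusedSectionVars false
set_option backward.isDefEq.respectTransparency false
set_option maxHeartbeats 1000000
set_option synthInstance.maxHeartbeats 400000

universe u

open CategoryTheory CategoryTheory.Limits MonoidalCategory CartesianMonoidalCategory MonObj GrpObj AlgebraicGeometry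
open TensorProduct
open Groth.Agent.UnipSplit (spk spkIso spkTensor)
open Groth.Agent.DynPar (IsP IsU exists_isP exists_isU)

noncomputable section

namespace Groth.Agent.Unirat

variable {k : Type u} [Field k]

/-- Rationality: an open subscheme is a basic open subset of affine space. -/
def Ratl (X : Over (Spec (CommRingCat.of k))) : Prop :=
  ∃ (n : ℕ) (h : MvPolynomial (Fin n) k), h ≠ 0 ∧ ∃ φ : Box n h ⟶ X, IsOpenImmersion φ.left

/-- Rationality passes along open immersions. -/
theorem ratl_of_openImmersion {X Y : Over (Spec (CommRingCat.of k))} (f : X ⟶ Y) [IsOpenImmersion f.left]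
    (hX : Ratl X) : Ratl Y := by
  obtain ⟨n, h, h0, φ, hφ⟩ := hX
  haveI := hφ
  exact ⟨n, h, h0, φ ≫ f, inferInstanceAs (IsOpenImmersion (φ.left ≫ f.left))⟩

/-- Rationality passes along isomorphisms. -/
theorem ratl_of_iso {X Y : Over (Spec (CommRingCat.of k))} (e : X ≅ Y) (hX : Ratl X) : Ratl Y := by
  haveI : IsIso e.hom.left := inferInstanceAs (IsIso ((Over.forget _).map e.hom))
  exact ratl_of_openImmersion e.hom hX

/-- Basic open subsets with arbitrary finite index type. -/
theorem ratl_away {ι' : Type} [Finite ι'] (h : MvPolynomial ι' k) (h0 : h ≠ 0) :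
    Ratl (spk k (Localization.Away h)) := by
  obtain ⟨n, ⟨e⟩⟩ := Finite.exists_equiv_fin ι'
  let E : MvPolynomial ι' k ≃ₐ[k] MvPolynomial (Fin n) k := MvPolynomial.renameEquiv k e
  let a : Localization.Away h →ₐ[k] Localization.Away (E h) :=
    IsLocalization.liftAlgHom (M := Submonoid.powers h)
      (f := (IsScalarTower.toAlgHom k (MvPolynomial (Fin n) k) (Localization.Away (E h))).comp E.toAlgHom)
      (fun y => by
        obtain ⟨m, hm⟩ := y.2
        rw [← hm, map_pow]
        exact (IsLocalization.Away.algebraMap_isUnit (E h)).pow m)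
  let b : Localization.Away (E h) →ₐ[k] Localization.Away h :=
    IsLocalization.liftAlgHom (M := Submonoid.powers (E h))
      (f := (IsScalarTower.toAlgHom k (MvPolynomial ι' k) (Localization.Away h)).comp E.symm.toAlgHom)
      (fun y => by
        obtain ⟨m, hm⟩ := y.2
        rw [← hm, map_pow]
        show IsUnit ((algebraMap _ _ (E.symm (E h))) ^ m)
        rw [E.symm_apply_apply]
        exact (IsLocalization.Away.algebraMap_isUnit h).pow m)
  have ha : ∀ p, a (algebraMap _ _ p) = algebraMap _ _ (E p) := fun p => IsLocalization.lift_eq _ _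
  have hb : ∀ p, b (algebraMap _ _ p) = algebraMap _ _ (E.symm p) := fun p => IsLocalization.lift_eq _ _
  have h1 : a.comp b = AlgHom.id k _ := IsLocalization.algHom_ext (Submonoid.powers (E h)) (AlgHom.ext fun p => by
    show a (b (algebraMap _ _ p)) = algebraMap _ _ p
    rw [hb, ha, E.apply_symm_apply])
  have h2 : b.comp a = AlgHom.id k _ := IsLocalization.algHom_ext (Submonoid.powers h) (AlgHom.ext fun p => by
    show b (a (algebraMap _ _ p)) = algebraMap _ _ p
    rw [ha, hb, E.symm_apply_apply])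
  refine ratl_of_iso (spkIso (AlgEquiv.ofAlgHom a b h1 h2)) ⟨n, E h, fun h3 => h0 (E.injective (h3.trans (map_zero E).symm)),
    𝟙 _, inferInstanceAs (IsOpenImmersion (𝟙 _))⟩

/-- Affine spaces are rational. -/
theorem ratl_spk (n : ℕ) : Ratl (spk k (MvPolynomial (Fin n) k)) := by
  let l := IsScalarTower.toAlgHom k (MvPolynomial (Fin n) k) (Localization.Away (1 : MvPolynomial (Fin n) k))
  exact ⟨n, 1, one_ne_zero, spkMap l, IsOpenImmersion.of_isLocalization (1 : MvPolynomial (Fin n) k)⟩

/-- Products of boxes are boxes. -/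
theorem ratl_box_tensor {n m : ℕ} (h : MvPolynomial (Fin n) k) (g : MvPolynomial (Fin m) k) (h0 : h ≠ 0)
    (g0 : g ≠ 0) : Ratl (Box n h ⊗ Box m g) := by
  let P := MvPolynomial (Fin n ⊕ Fin m) k
  let iL : MvPolynomial (Fin n) k →ₐ[k] P := MvPolynomial.rename Sum.inl
  let iR : MvPolynomial (Fin m) k →ₐ[k] P := MvPolynomial.rename Sum.inr
  let H : P := iL h * iR g
  have hH : H ≠ 0 := mul_ne_zero
    (fun e => h0 (MvPolynomial.rename_injective _ Sum.inl_injective (e.trans (map_zero iL).symm)))
    (fun e => g0 (MvPolynomial.rename_injective _ Sum.inr_injective (e.trans (map_zero iR).symm)))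
  let L := Localization.Away H
  have hu : IsUnit (algebraMap P L (iL h)) ∧ IsUnit (algebraMap P L (iR g)) := by
    have := IsLocalization.Away.algebraMap_isUnit (S := L) H
    rwa [map_mul, IsUnit.mul_iff] at this
  let TL : Localization.Away h →ₐ[k] L :=
    IsLocalization.liftAlgHom (M := Submonoid.powers h) (f := (IsScalarTower.toAlgHom k P L).comp iL)
      (fun y => by obtain ⟨j, hj⟩ := y.2; rw [← hj, map_pow]; exact hu.1.pow j)
  let TR : Localization.Away g →ₐ[k] L :=
    IsLocalization.liftAlgHom (M := Submonoid.powers g) (f := (IsScalarTower.toAlgHom k P L).comp iR)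
      (fun y => by obtain ⟨j, hj⟩ := y.2; rw [← hj, map_pow]; exact hu.2.pow j)
  let T : Localization.Away h ⊗[k] Localization.Away g →ₐ[k] L :=
    Algebra.TensorProduct.lift TL TR fun _ _ => Commute.all _ _
  let sL : MvPolynomial (Fin n) k →ₐ[k] Localization.Away h ⊗[k] Localization.Away g :=
    (Algebra.TensorProduct.includeLeft (S := k) (A := Localization.Away h) (B := Localization.Away g)).comp
      (IsScalarTower.toAlgHom k (MvPolynomial (Fin n) k) (Localization.Away h))
  let sR : MvPolynomial (Fin m) k →ₐ[k] Localization.Away h ⊗[k] Localization.Away g :=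
    (Algebra.TensorProduct.includeRight (A := Localization.Away h) (B := Localization.Away g)).comp
      (IsScalarTower.toAlgHom k (MvPolynomial (Fin m) k) (Localization.Away g))
  let s : P →ₐ[k] Localization.Away h ⊗[k] Localization.Away g :=
    MvPolynomial.aeval (Sum.elim (fun i => sL (MvPolynomial.X i)) (fun j => sR (MvPolynomial.X j)))
  have hsL : ∀ p, s (iL p) = sL p := by
    have e : s.comp iL = sL := MvPolynomial.algHom_ext fun i => by
      show MvPolynomial.aeval _ (MvPolynomial.rename Sum.inl (MvPolynomial.X i)) = _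
      rw [MvPolynomial.rename_X, MvPolynomial.aeval_X]
      rfl
    exact fun p => DFunLike.congr_fun e p
  have hsR : ∀ p, s (iR p) = sR p := by
    have e : s.comp iR = sR := MvPolynomial.algHom_ext fun i => by
      show MvPolynomial.aeval _ (MvPolynomial.rename Sum.inr (MvPolynomial.X i)) = _
      rw [MvPolynomial.rename_X, MvPolynomial.aeval_X]
      rfl
    exact fun p => DFunLike.congr_fun e p
  have hsH : IsUnit (s H) := by
    rw [map_mul, hsL, hsR]
    exact ((IsLocalization.Away.algebraMap_isUnit h).map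
        (Algebra.TensorProduct.includeLeft (S := k) (A := Localization.Away h) (B := Localization.Away g))).mul
      ((IsLocalization.Away.algebraMap_isUnit g).map
        (Algebra.TensorProduct.includeRight (R := k) (A := Localization.Away h) (B := Localization.Away g)))
  let S : L →ₐ[k] Localization.Away h ⊗[k] Localization.Away g :=
    IsLocalization.liftAlgHom (M := Submonoid.powers H) (f := s)
      (fun y => by obtain ⟨j, hj⟩ := y.2; rw [← hj, map_pow]; exact hsH.pow j)
  have hS : ∀ p, S (algebraMap P L p) = s p := fun p => IsLocalization.lift_eq _ _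
  have hTL : ∀ p, TL (algebraMap _ _ p) = algebraMap P L (iL p) := fun p => IsLocalization.lift_eq _ _
  have hTR : ∀ p, TR (algebraMap _ _ p) = algebraMap P L (iR p) := fun p => IsLocalization.lift_eq _ _
  have e1 : ∀ x, S (TL x) = x ⊗ₜ[k] (1 : Localization.Away g) := by
    have e : S.comp TL = Algebra.TensorProduct.includeLeft (S := k) (A := Localization.Away h)
        (B := Localization.Away g) := by
      refine IsLocalization.algHom_ext (Submonoid.powers h) (AlgHom.ext fun p => ?_)
      show S (TL (algebraMap _ _ p)) = _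
      rw [hTL, hS, hsL]
      rfl
    exact fun x => DFunLike.congr_fun e x
  have e2 : ∀ x, S (TR x) = (1 : Localization.Away h) ⊗ₜ[k] x := by
    have e : S.comp TR = Algebra.TensorProduct.includeRight (R := k) (A := Localization.Away h)
        (B := Localization.Away g) := by
      refine IsLocalization.algHom_ext (Submonoid.powers g) (AlgHom.ext fun p => ?_)
      show S (TR (algebraMap _ _ p)) = _
      rw [hTR, hS, hsR]
      rfl
    exact fun x => DFunLike.congr_fun e x
  have hST : ∀ x, S (T x) = x := fun x => by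
    induction x using TensorProduct.induction_on with
    | zero => rw [map_zero, map_zero]
    | add a b ha hb => rw [map_add, map_add, ha, hb]
    | tmul a b =>
      rw [Algebra.TensorProduct.lift_tmul, map_mul, e1, e2, Algebra.TensorProduct.tmul_mul_tmul, _root_.mul_one,
        _root_.one_mul]
  have hTsL : ∀ p, T (sL p) = algebraMap P L (iL p) := fun p => by
    show T (algebraMap _ _ p ⊗ₜ[k] 1) = _
    rw [Algebra.TensorProduct.lift_tmul, map_one, _root_.mul_one, hTL]
  have hTsR : ∀ p, T (sR p) = algebraMap P L (iR p) := fun p => by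
    show T (1 ⊗ₜ[k] algebraMap _ _ p) = _
    rw [Algebra.TensorProduct.lift_tmul, map_one, _root_.one_mul, hTR]
  have hTS : T.comp S = AlgHom.id k L := by
    refine IsLocalization.algHom_ext (Submonoid.powers H) (MvPolynomial.algHom_ext fun i => ?_)
    show T (S (algebraMap P L _)) = algebraMap P L _
    rw [hS]
    rcases i with i | i
    · rw [← MvPolynomial.rename_X (R := k) Sum.inl i]
      show T (s (iL _)) = _
      rw [hsL, hTsL]
    · rw [← MvPolynomial.rename_X (R := k) Sum.inr i]
      show T (s (iR _)) = _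
      rw [hsR, hTsR]
  exact ratl_of_iso (spkIso (AlgEquiv.ofAlgHom T S hTS (AlgHom.ext hST)) ≪≫ (spkTensor _ _).symm) (ratl_away H hH)

/-- Products of rational schemes are rational. -/
theorem ratl_prod {X Y : Over (Spec (CommRingCat.of k))} (hX : Ratl X) (hY : Ratl Y) : Ratl (X ⊗ Y) := by
  obtain ⟨n, h, h0, φ, hφ⟩ := hX
  obtain ⟨m, g, g0, ψ, hψ⟩ := hY
  haveI h1 : IsOpenImmersion (φ ▷ Box m g).left :=
    MorphismProperty.of_isPullback (isPullback_whisker φ (Box m g)).flip.flip hφ
  haveI h2 : IsOpenImmersion (X ◁ ψ).left := by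
    rw [show X ◁ ψ = (β_ X (Box m g)).hom ≫ (ψ ▷ X) ≫ (β_ Y X).hom by simp, Over.comp_left, Over.comp_left]
    haveI : IsIso (β_ X (Box m g)).hom.left := inferInstanceAs (IsIso ((Over.forget _).map (β_ X (Box m g)).hom))
    haveI : IsIso (β_ Y X).hom.left := inferInstanceAs (IsIso ((Over.forget _).map (β_ Y X).hom))
    haveI : IsOpenImmersion (ψ ▷ X).left := MorphismProperty.of_isPullback (isPullback_whisker ψ X).flip.flip hψ
    infer_instance
  exact ratl_of_openImmersion (X ◁ ψ) (ratl_of_openImmersion (φ ▷ Box m g) (ratl_box_tensor h g h0 g0))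

/-- Split tori are rational. -/
theorem ratl_DS (r : ℕ) : Ratl (Red.DS (Spec (CommRingCat.of k)) (Fin r → ℤ)) := by
  classical
  let B := MonoidAlgebra k (Multiplicative (Fin r → ℤ))
  let H : MvPolynomial (Fin r) k := ∏ i, MvPolynomial.X i
  have hH : H ≠ 0 := Finset.prod_ne_zero_iff.2 fun i _ => MvPolynomial.X_ne_zero i
  let L := Localization.Away H
  have hx : ∀ i, IsUnit (algebraMap (MvPolynomial (Fin r) k) L (MvPolynomial.X i)) := by
    have := IsLocalization.Away.algebraMap_isUnit (S := L) H
    rw [map_prod] at this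
    exact fun i => IsUnit.prod_univ_iff.1 this i
  let xu : Fin r → Lˣ := fun i => (hx i).unit
  let mh : Multiplicative (Fin r → ℤ) →* L :=
    (Units.coeHom L).comp
      { toFun := fun v => ∏ i, xu i ^ (Multiplicative.toAdd v i)
        map_one' := by simp
        map_mul' := fun v w => by
          rw [← Finset.prod_mul_distrib]
          exact Finset.prod_congr rfl fun i _ => by simp [zpow_add] }
  let b : B →ₐ[k] L := MonoidAlgebra.lift k L _ mh
  let es : Fin r → Multiplicative (Fin r → ℤ) := fun i => Multiplicative.ofAdd (Pi.single i (1 : ℤ))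
  let s : MvPolynomial (Fin r) k →ₐ[k] B := MvPolynomial.aeval fun i => MonoidAlgebra.of k _ (es i)
  have hsX : ∀ i, IsUnit (s (MvPolynomial.X i)) := fun i => by
    rw [MvPolynomial.aeval_X]
    exact (Group.isUnit (es i)).map _
  let a : L →ₐ[k] B := IsLocalization.liftAlgHom (M := Submonoid.powers H) (f := s) (fun y => by
    obtain ⟨j, hj⟩ := y.2
    rw [← hj, map_pow, map_prod]
    exact (IsUnit.prod_univ_iff.2 hsX).pow j)
  have ha : ∀ p, a (algebraMap _ L p) = s p := fun p => IsLocalization.lift_eq _ _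
  have hb : ∀ v, b (MonoidAlgebra.of k _ v) = mh v := fun v => MonoidAlgebra.lift_of _ _
  have hbe : ∀ i, b (MonoidAlgebra.of k _ (es i)) = algebraMap _ L (MvPolynomial.X i) := fun i => by
    rw [hb]
    show ((∏ j, xu j ^ (Pi.single i (1 : ℤ) : Fin r → ℤ) j : Lˣ) : L) = _
    rw [Finset.prod_eq_single i (fun j _ hj => by rw [Pi.single_eq_of_ne hj, zpow_zero])
      (fun h => absurd (Finset.mem_univ i) h), Pi.single_eq_same, zpow_one]
    rfl
  have h1 : b.comp a = AlgHom.id k L := by
    refine IsLocalization.algHom_ext (Submonoid.powers H) (MvPolynomial.algHom_ext fun i => ?_)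
    show b (a (algebraMap _ L _)) = algebraMap _ L _
    rw [ha, MvPolynomial.aeval_X, hbe]
  have h2 : a.comp b = AlgHom.id k B := by
    refine MonoidAlgebra.algHom_ext (fun v => ?_) (by ext)
    obtain ⟨v, rfl⟩ := Multiplicative.ofAdd.surjective v
    show a (b (MonoidAlgebra.of k _ (Multiplicative.ofAdd v))) = MonoidAlgebra.of k _ (Multiplicative.ofAdd v)
    rw [hb]
    show a ((∏ j, xu j ^ v j : Lˣ) : L) = _
    have hau : ∀ j, Units.map (a : L →* B) (xu j) = (MonoidAlgebra.of k _).toHomUnits (es j) := fun j => Units.ext (by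
      show a (algebraMap _ L (MvPolynomial.X j)) = MonoidAlgebra.of k _ (es j)
      rw [ha, MvPolynomial.aeval_X])
    show ((Units.map (a : L →* B) (∏ j, xu j ^ v j) : Bˣ) : B) = _
    simp only [map_prod, map_zpow, hau]
    have e1 : (∏ j, (MonoidAlgebra.of k (Multiplicative (Fin r → ℤ))).toHomUnits (es j) ^ v j) =
        (MonoidAlgebra.of k (Multiplicative (Fin r → ℤ))).toHomUnits (∏ j, es j ^ v j) := by
      rw [map_prod]
      exact Finset.prod_congr rfl fun j _ => (map_zpow _ (es j) (v j)).symm
    rw [e1]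
    show MonoidAlgebra.of k _ (∏ j, es j ^ v j) = _
    congr 1
    refine Multiplicative.toAdd.injective ?_
    rw [toAdd_prod]
    simp only [toAdd_zpow, es, toAdd_ofAdd]
    exact (pi_eq_sum_univ' v).symm
  obtain ⟨d⟩ := MTBridge.nonempty_DS_iso k (Fin r → ℤ)
  let dd : Red.DS (Spec (CommRingCat.of k)) (Fin r → ℤ) ≅ (MTBridge.specGrp k B).X := (Grp.forget _).mapIso d
  refine ratl_of_iso dd.symm (ratl_of_iso (spkIso (AlgEquiv.ofAlgHom a b h2 h1).symm ≪≫ Over.isoMk (Iso.refl _) ?_)
    (ratl_away H hH))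
  exact Category.id_comp _

/-- **Connected linear groups over algebraically closed fields are rational.** -/
theorem ratl_group [IsAlgClosed k] (G : Over (Spec (CommRingCat.of k))) [GrpObj G] [IsAffine G.left] [Smooth G.hom]
    [ConnectedSpace G.left] : Ratl G := by
  classical
  haveI : IsAffineHom G.hom := isAffineHom_of_isAffine _
  let S := Spec (CommRingCat.of k)
  obtain ⟨T, _, i, hi⟩ := GrMax.exists_maxTorus G
  haveI := hi.1; haveI := hi.2.1
  obtain ⟨r, ⟨eT⟩⟩ := Chev.Borel.split_of_isTorus hi.2.2.1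
  let e : Red.DS S (Fin r → ℤ) ⟶ T := eT.inv.hom.hom
  haveI : IsMonHom e := eT.inv.hom.isMonHom_hom
  let c : Red.DS S (Fin r → ℤ) ⟶ G := e ≫ i
  obtain ⟨C, _, cC, hC, -, hcart, -⟩ := Groth.Agent.S4118.result _ G T i hi
  obtain ⟨mu, hreg⟩ := DynPar.exists_regular c
  have hcC : Red.IsCentralizerOf c cC := by
    refine ⟨hC.1, hC.2.1, fun X g => (hC.2.2 X g).trans ⟨fun h X' x a => ?_, fun h X' x a => ?_⟩⟩
    · have := h X' x (a ≫ e)
      rwa [Category.assoc] at this
    · have := h X' x (a ≫ eT.hom.hom.hom)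
      have e1 : eT.hom.hom.hom ≫ e = 𝟙 T := congrArg (fun g : Grp.mk T ⟶ Grp.mk T => g.hom.hom) eT.hom_inv_id
      simp only [c, Category.assoc, reassoc_of% e1] at this
      exact this
  have hcen : Red.IsCentralizerOf (Red.DSmap S mu ≫ c) cC := DynPar.centralizer_congr hcC fun B _ f g =>
    ⟨fun hg => by
      rw [show c = Red.DSmap S (AddMonoidHom.id (Fin r → ℤ)) ≫ c by rw [DynPar.DSmap_id, Category.id_comp],
        DynPar.mem_ZSub_iff c _ DynPar.gens_univ] at hg
      rw [DynPar.mem_ZSub_iff c _ DynPar.gens_univ]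
      exact fun a ha m hm => hg a ha m fun h => hm (by rw [show m = 0 from h, map_zero]), hreg B f g⟩
  obtain ⟨P, _, p, hp⟩ := exists_isP (G := G) (Red.DSmap S mu ≫ c)
  obtain ⟨P', _, p', hp'⟩ := exists_isP (G := G) (Red.DSmap S (-mu) ≫ c)
  obtain ⟨U, _, u, hu⟩ := exists_isU (G := G) (Red.DSmap S mu ≫ c)
  obtain ⟨V, _, v, hv⟩ := exists_isU (G := G) (Red.DSmap S (-mu) ≫ c)
  haveI := hp.1; haveI := hp.2.1; haveI := hu.1; haveI := hu.2.1; haveI := hv.1; haveI := hv.2.1
  have unip : ∀ (ν : (Fin r → ℤ) →+ ℤ) {P₀ U₀ : Over S} [GrpObj P₀] [GrpObj U₀] {p₀ : P₀ ⟶ G} {u₀ : U₀ ⟶ G},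
      IsP (Red.DSmap S ν ≫ c) p₀ → IsU (Red.DSmap S ν ≫ c) u₀ → Ratl U₀ := by
    intro ν P₀ U₀ _ _ p₀ u₀ hp₀ hu₀
    haveI := hu₀.2.1
    haveI : IsAffine U₀.left := isAffine_of_isAffineHom u₀.left
    obtain ⟨Z, _, z, hz, -, -⟩ := DynPar.exists_centralizer_DS (G := G) inferInstance inferInstance (Red.DSmap S ν ≫ c)
    haveI := (DynPar.smooth_isU inferInstance hp₀ hu₀ hz).1
    obtain ⟨-, hUc, hUn⟩ := DynPar.field_fibre (Red.DSmap S ν ≫ c) hp₀ hu₀
    haveI := hUc
    obtain ⟨m, ⟨eU⟩⟩ := UnipSplit.exists_coord' U₀ (hUn inferInstance)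
    exact ratl_of_iso eU (ratl_spk m)
  have hU : Ratl U := unip mu hp hu
  have hV : Ratl V := unip (-mu) hp' hv
  have hCr : Ratl C := by
    obtain ⟨T', Q, _, _, Φ, hT', hQa, hQs, hQc, hQ, hΦ⟩ := DensePtsGrp.exists_cover_cartan cC hcart
    haveI := hQa; haveI := hQs; haveI := hQc; haveI := hΦ
    obtain ⟨m, ⟨eQ⟩⟩ := UnipSplit.exists_coord' Q hQ
    obtain ⟨r', ⟨eT'⟩⟩ := Chev.Borel.split_of_isTorus hT'
    exact ratl_of_iso (asIso Φ) (ratl_prod (ratl_of_iso ((Grp.forget _).mapIso eT').symm (ratl_DS r'))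
      (ratl_of_iso eQ (ratl_spk m)))
  obtain ⟨L⟩ := DynPar.exists_leviData hp hu hcen
  haveI := L.iso
  haveI := RootBase.isOpenImmersion_upMap (c := c) mu hv hp
  exact ratl_of_openImmersion (RootBase.upMap v p)
    (ratl_prod hV (ratl_of_iso (asIso ((L.l ⊗ₘ L.iu) ≫ μ[P])) (ratl_prod hCr hU)))

/-- The formulation with an isomorphism of open subschemes. -/
theorem exists_opens_iso {X : Over (Spec (CommRingCat.of k))} (hX : Ratl X) :
    ∃ (U : X.left.Opens) (n : ℕ) (V : (𝔸(ULift.{u} (Fin n); Spec (CommRingCat.of k))).Opens)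
      (e : (U : Scheme.{u}) ≅ (V : Scheme.{u})), (U : Set ↥X.left).Nonempty ∧
        e.hom ≫ V.ι ≫ (𝔸(ULift.{u} (Fin n); Spec (CommRingCat.of k)) ↘ Spec (CommRingCat.of k)) = U.ι ≫ X.hom := by
  obtain ⟨n, h, h0, φ, hφ⟩ := hX
  haveI := hφ
  let E : MvPolynomial (ULift.{u} (Fin n)) k ≃ₐ[k] MvPolynomial (Fin n) k := MvPolynomial.renameEquiv k Equiv.ulift
  let a : CommRingCat.of (MvPolynomial (ULift.{u} (Fin n)) k) ⟶ CommRingCat.of (Localization.Away h) :=
    CommRingCat.ofHom (((algebraMap (MvPolynomial (Fin n) k) (Localization.Away h)).comp E.toRingEquiv.toRingHom))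
  haveI : IsOpenImmersion (Spec.map (CommRingCat.ofHom (algebraMap (MvPolynomial (Fin n) k) (Localization.Away h)))) :=
    IsOpenImmersion.of_isLocalization h
  haveI : IsIso (CommRingCat.ofHom E.toRingEquiv.toRingHom) := E.toRingEquiv.toCommRingCatIso.isIso_hom
  haveI : IsOpenImmersion (Spec.map a) := by
    rw [show a = CommRingCat.ofHom E.toRingEquiv.toRingHom ≫
      CommRingCat.ofHom (algebraMap (MvPolynomial (Fin n) k) (Localization.Away h)) from rfl, Spec.map_comp]
    infer_instance
  let j : (Box n h).left ⟶ AffineSpace (ULift.{u} (Fin n)) (Spec (CommRingCat.of k)) :=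
    Spec.map a ≫ (AffineSpace.SpecIso (ULift.{u} (Fin n)) (CommRingCat.of k)).inv
  refine ⟨φ.left.opensRange, n, j.opensRange, φ.left.isoOpensRange.symm ≪≫ j.isoOpensRange, ?_, ?_⟩
  · haveI : IsDomain (Localization.Away h) :=
      IsLocalization.isDomain_localization (powers_le_nonZeroDivisors_of_noZeroDivisors h0)
    haveI : Nonempty (Box n h).left := inferInstanceAs (Nonempty (PrimeSpectrum (Localization.Away h)))
    exact Set.range_nonempty _
  · rw [Iso.trans_hom, Iso.symm_hom, Category.assoc, Iso.inv_comp_eq, ← Category.assoc, Scheme.Hom.isoOpensRange_hom_ι,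
      ← Category.assoc φ.left.isoOpensRange.hom, Scheme.Hom.isoOpensRange_hom_ι, Over.w φ]
    show (Spec.map a ≫ _) ≫ _ = Spec.map _
    rw [Category.assoc, AffineSpace.SpecIso_inv_over, ← Spec.map_comp]
    refine congrArg Spec.map (CommRingCat.hom_ext (RingHom.ext fun c => ?_))
    show algebraMap (MvPolynomial (Fin n) k) _ (E (MvPolynomial.C c)) = algebraMap k (Localization.Away h) c
    rw [show E (MvPolynomial.C c) = algebraMap k _ c from E.commutes c, ← IsScalarTower.algebraMap_apply]

end Groth.Agent.Unirat
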