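import Groth.Agent.Unirat.Main
import Groth.Agent.GrMax.BaseChange
import Mathlib.FieldTheory.PerfectClosure
import Mathlib.FieldTheory.Finite.Basic
import Mathlib.FieldTheory.RatFunc.AsPolynomial

/-!
# Unirationality of affine groups over finite fields

Over the perfect closure `K` of `k(t)` the group is unirational; a finite level of `K` is again a purely
transcendental extension of `k`.
-/

set_option autoImplicit false
set_option linter.style.haveILetI false
set_option linter.unusedSectionVars false
set_option backward.isDefEq.respectTransparency false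
set_option maxHeartbeats 1000000
set_option synthInstance.maxHeartbeats 400000

universe u

open CategoryTheory CategoryTheory.Limits MonoidalCategory CartesianMonoidalCategory AlgebraicGeometry
open TensorProduct
open Groth.Agent.GrMax (fieldMap)
open Groth.Agent.MTBridge (specGrp)

noncomputable section

namespace Groth.Agent.Unirat

variable {k : Type u} [Field k]

/-- An embedding in a localisation factors through a smaller localisation containing the generators. -/
theorem factor_away {A P Q : Type u} [CommRing A] [Algebra k A] [CommRing P] [IsDomain P] [Algebra k P] [CommRing Q]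
    [IsDomain Q] [Algebra k Q] (j : P →ₐ[k] Q) (hj : Function.Injective j) (H : P) (hH : H ≠ 0) (h : Q) (h0 : h ≠ 0)
    (hu : IsUnit (algebraMap Q (Localization.Away h) (j H))) (g : A →ₐ[k] Localization.Away h)
    (hg : Function.Injective g) (s : Set A) (hs : Algebra.adjoin k s = ⊤)
    (hz : ∀ a ∈ s, ∃ (v : P) (e : ℕ), g a * algebraMap Q (Localization.Away h) (j H) ^ e =
      algebraMap Q (Localization.Away h) (j v)) :
    ∃ g0 : A →ₐ[k] Localization.Away H, Function.Injective g0 := by
  let J : Localization.Away H →ₐ[k] Localization.Away h :=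
    IsLocalization.liftAlgHom (M := Submonoid.powers H)
      (f := (IsScalarTower.toAlgHom k Q (Localization.Away h)).comp j)
      (fun y => by obtain ⟨m, hm⟩ := y.2; rw [← hm, map_pow]; exact hu.pow m)
  have hJv : ∀ v : P, J (algebraMap P _ v) = algebraMap Q (Localization.Away h) (j v) := fun v =>
    IsLocalization.lift_eq _ _
  have hJ : Function.Injective J := by
    rw [injective_iff_map_eq_zero]
    intro x hx
    obtain ⟨y, t, rfl⟩ := IsLocalization.exists_mk'_eq (Submonoid.powers H) x
    have h1 : J (algebraMap _ _ y) = 0 := by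
      rw [← IsLocalization.mk'_spec (Localization.Away H) y t, map_mul, hx, zero_mul]
    rw [hJv] at h1
    have h2 : j y = 0 := IsLocalization.injective (Localization.Away h)
      (powers_le_nonZeroDivisors_of_noZeroDivisors h0) (h1.trans (map_zero _).symm)
    rw [show y = 0 from hj (h2.trans (map_zero j).symm), IsLocalization.mk'_zero]
  have hr : ∀ a, g a ∈ J.range := fun a => by
    have : Algebra.adjoin k s ≤ J.range.comap g := Algebra.adjoin_le fun b hb => by
      obtain ⟨v, e, hv⟩ := hz b hb
      refine ⟨IsLocalization.mk' (Localization.Away H) v (⟨H ^ e, e, rfl⟩ : Submonoid.powers H), ?_⟩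
      refine (hu.pow e).mul_right_cancel ?_
      show J _ * _ = g b * _
      rw [hv, ← hJv, ← map_pow, ← hJv, ← map_mul]
      refine congrArg J ?_
      rw [← map_pow]
      exact (IsLocalization.mk'_spec (Localization.Away H) v (⟨H ^ e, e, rfl⟩ : Submonoid.powers H))
    exact this (hs ▸ Algebra.mem_top)
  refine ⟨(AlgEquiv.ofInjective J hJ).symm.toAlgHom.comp (g.codRestrict J.range hr), fun x y hxy => hg ?_⟩
  exact congrArg Subtype.val ((AlgEquiv.ofInjective J hJ).symm.injective hxy)

/-- Generators of an embedded algebra as fractions. -/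
theorem exists_fractions {A Q : Type u} [CommRing A] [CommRing Q] (h : Q) (g : A → Localization.Away h) (s : Finset A) :
    ∃ (P : A → Q) (e : A → ℕ), ∀ a ∈ s, g a * algebraMap Q (Localization.Away h) h ^ e a =
      algebraMap Q (Localization.Away h) (P a) := by
  choose P e he using fun a => IsLocalization.Away.surj (S := Localization.Away h) h (g a)
  exact ⟨e, P, fun a _ => he a⟩

/-- Descending from a rational function field in one variable to a polynomial ring. -/
theorem exists_embed_ratFunc {A : Type u} [CommRing A] [Algebra k A] [Algebra.FiniteType k A] {n : ℕ}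
    (h : MvPolynomial (Fin n) (RatFunc k)) (h0 : h ≠ 0) (g : A →ₐ[k] Localization.Away h) (hg : Function.Injective g) :
    ∃ (H : MvPolynomial (Fin n ⊕ PUnit.{1}) k), H ≠ 0 ∧ ∃ g0 : A →ₐ[k] Localization.Away H, Function.Injective g0 := by
  classical
  let R := Polynomial k
  let L := RatFunc k
  obtain ⟨s, hs⟩ := Algebra.FiniteType.out (R := k) (A := A)
  obtain ⟨P, e, hP⟩ := exists_fractions h g s
  obtain ⟨D, hD⟩ := IsLocalization.exist_integer_multiples_of_finset (nonZeroDivisors R) (S := L)
    ((insert h (s.image P)).biUnion fun q => q.support.image q.coeff)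
  have hD0 : (D : R) ≠ 0 := nonZeroDivisors.coe_ne_zero D
  have hq : ∀ q ∈ insert h (s.image P), MvPolynomial.C (algebraMap R L D) * q ∈
      (MvPolynomial.map (σ := Fin n) (algebraMap R L)).range := fun q hq => by
    rw [← SetLike.mem_coe, RingHom.coe_range, MvPolynomial.mem_range_map_iff_coeffs_subset]
    intro c hc
    rw [Finset.mem_coe, MvPolynomial.mem_coeffs_iff] at hc
    obtain ⟨d, hd, rfl⟩ := hc
    rw [MvPolynomial.coeff_C_mul]
    have hd' : q.coeff d ≠ 0 := fun e0 => MvPolynomial.mem_support_iff.1 hd (by rw [MvPolynomial.coeff_C_mul, e0, mul_zero])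
    obtain ⟨r, hr⟩ := hD (q.coeff d)
      (Finset.mem_biUnion.2 ⟨q, hq, Finset.mem_image.2 ⟨d, MvPolynomial.mem_support_iff.2 hd', rfl⟩⟩)
    exact ⟨r, hr.trans (Algebra.smul_def _ _)⟩
  let E : MvPolynomial (Fin n ⊕ PUnit.{1}) k ≃ₐ[k] MvPolynomial (Fin n) R :=
    (MvPolynomial.sumAlgEquiv k (Fin n) PUnit.{1}).trans
      (MvPolynomial.mapAlgEquiv (Fin n) (MvPolynomial.pUnitAlgEquiv k))
  let j : MvPolynomial (Fin n ⊕ PUnit.{1}) k →ₐ[k] MvPolynomial (Fin n) L :=
    (MvPolynomial.mapAlgHom (IsScalarTower.toAlgHom k R L)).comp E.toAlgHom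
  have hj : Function.Injective j :=
    (MvPolynomial.map_injective _ (IsFractionRing.injective R L)).comp E.injective
  have hjr : ∀ q ∈ insert h (s.image P), ∃ v, j v = MvPolynomial.C (algebraMap R L D) * q := fun q hq' => by
    obtain ⟨v, hv⟩ := hq q hq'
    exact ⟨E.symm v, by rw [← hv]; exact congrArg (MvPolynomial.map (algebraMap R L)) (E.apply_symm_apply v)⟩
  obtain ⟨vh, hvh⟩ := hjr h (Finset.mem_insert_self _ _)
  let vD := E.symm (MvPolynomial.C (D : R))
  have hvD : j vD = MvPolynomial.C (algebraMap R L D) :=
    (congrArg (MvPolynomial.map (algebraMap R L)) (E.apply_symm_apply _)).trans (MvPolynomial.map_C _ _)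
  let H := vD * vh
  have hjH : j H = MvPolynomial.C (algebraMap R L D) * (MvPolynomial.C (algebraMap R L D) * h) := by
    rw [map_mul, hvD, hvh]
  have hDL : algebraMap R L D ≠ 0 := (map_ne_zero_iff _ (IsFractionRing.injective R L)).2 hD0
  have hH : H ≠ 0 := fun e0 => by
    have := congrArg j e0
    rw [hjH, map_zero, mul_eq_zero, mul_eq_zero, MvPolynomial.C_eq_zero] at this
    tauto
  have hu : IsUnit (algebraMap _ (Localization.Away h) (j H)) := by
    have hc : IsUnit (algebraMap _ (Localization.Away h) (MvPolynomial.C (σ := Fin n) (algebraMap R L D))) :=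
      ((isUnit_iff_ne_zero.2 hDL).map MvPolynomial.C).map _
    rw [hjH, map_mul, map_mul]
    exact hc.mul (hc.mul (IsLocalization.Away.algebraMap_isUnit h))
  refine ⟨H, hH, factor_away j hj H hH h h0 hu g hg (s : Set A) hs fun a ha => ?_⟩
  obtain ⟨v, hv⟩ := hjr (P a) (Finset.mem_insert_of_mem (Finset.mem_image_of_mem P ha))
  refine ⟨v * vh * vD ^ (2 * e a), e a + 1, ?_⟩
  have hP' := hP a ha
  rw [hjH, map_mul j, map_mul j, map_pow j, hv, hvh, hvD]
  simp only [map_mul, map_pow]
  rw [← hP']
  ring

section Perfect

variable (p : ℕ) [Fact p.Prime] [CharP (RatFunc k) p]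

/-- The `n`-th level of the perfect closure. -/
def level (n : ℕ) : RatFunc k →+* PerfectClosure (RatFunc k) p where
  toFun x := PerfectClosure.mk _ _ (n, x)
  map_one' := by simpa using (PerfectClosure.natCast (RatFunc k) p n 1).symm
  map_mul' x y := by
    rw [PerfectClosure.mk_mul_mk, ← iterate_map_mul (frobenius (RatFunc k) p)]
    exact PerfectClosure.R.sound (RatFunc k) p n n _ _ rfl
  map_zero' := PerfectClosure.mk_zero_right _ _ n
  map_add' x y := by
    rw [PerfectClosure.mk_add_mk, ← iterate_map_add (frobenius (RatFunc k) p)]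
    exact PerfectClosure.R.sound (RatFunc k) p n n _ _ rfl

theorem level_apply (n : ℕ) (x : RatFunc k) : level p n x = PerfectClosure.mk _ _ (n, x) := rfl

theorem mem_range_level {m n : ℕ} (h : m ≤ n) (x : RatFunc k) :
    PerfectClosure.mk (RatFunc k) p (m, x) ∈ (level (k := k) p n).range := by
  refine ⟨(frobenius (RatFunc k) p)^[n - m] x, ?_⟩
  rw [level_apply, show (n, (frobenius (RatFunc k) p)^[n - m] x) = (n - m + m, (frobenius (RatFunc k) p)^[n - m] x) by
    rw [Nat.sub_add_cancel h]]
  exact (PerfectClosure.R.sound (RatFunc k) p (n - m) m x _ rfl).symm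

end Perfect

/-- **Affine groups over finite fields are unirational.** -/
theorem unirat_finite [Finite k] (G : Over (Spec (CommRingCat.of k))) [GrpObj G] [IsAffine G.left]
    [Smooth G.hom] [ConnectedSpace G.left] : Unirat G := by
  classical
  haveI : IsAffineHom G.hom := isAffineHom_of_isAffine _
  obtain ⟨A, _, eA, heA⟩ := FinHopf.exists_hopf (R := CommRingCat.of k) G
  haveI : IsIso eA.hom.left := inferInstanceAs (IsIso ((Over.forget _).map eA.hom))
  haveI : IsIso eA.inv.left := inferInstanceAs (IsIso ((Over.forget _).map eA.inv))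
  haveI : Algebra.FiniteType k A := by
    have h0 : LocallyOfFiniteType (eA.hom.left ≫ G.hom) := inferInstance
    rw [Over.w eA.hom] at h0
    exact RingHom.finiteType_algebraMap.1 ((HasRingHomProperty.Spec_iff (P := @LocallyOfFiniteType)).1 h0)
  haveI : _root_.IsReduced A := by
    haveI : IsReduced G.left := SmoothRed.isReduced_of_smooth_scheme G.hom
    haveI : IsReduced (Spec (CommRingCat.of A)) := isReduced_of_isOpenImmersion eA.hom.left
    exact (affine_isReduced_iff (CommRingCat.of A)).mp inferInstance
  obtain ⟨p, hp⟩ := CharP.exists k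
  haveI := hp
  haveI : Fact p.Prime := ⟨CharP.char_is_prime k p⟩
  haveI : CharP (RatFunc k) p := charP_of_injective_algebraMap (algebraMap k (RatFunc k)).injective p
  let L := RatFunc k
  let K := PerfectClosure L p
  letI : Algebra k K := ((PerfectClosure.of L p).comp (algebraMap k L)).toAlgebra
  haveI : Infinite L := Infinite.of_injective _ (IsFractionRing.injective (Polynomial k) L)
  haveI : Infinite K := Infinite.of_injective _ (PerfectClosure.of L p).injective
  let f := fieldMap (k := k) K
  haveI : IsAffineHom (Red.bc f G).hom := inferInstanceAs (IsAffineHom (pullback.snd G.hom f))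
  haveI : IsAffine (Red.bc f G).left := isAffine_of_isAffineHom (Red.bc f G).hom
  haveI : Smooth (Red.bc f G).hom := inferInstanceAs (Smooth (pullback.snd G.hom f))
  haveI : ConnectedSpace (Red.bc f G).left := AutFinOrd.connectedSpace_bc f G
  obtain ⟨n, h, h0, φ, hφ⟩ := unirat_group (Red.bc f G)
  -- the embedding over the big field
  let ψ : Spec (CommRingCat.of (Localization.Away h)) ⟶ Spec (CommRingCat.of A) :=
    φ.left ≫ pullback.fst G.hom f ≫ eA.inv.left
  have hψd : DenseRange ψ := by
    haveI : Surjective (pullback.fst G.hom f ≫ eA.inv.left) := inferInstance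
    exact (pullback.fst G.hom f ≫ eA.inv.left).surjective.denseRange.comp hφ
      (pullback.fst G.hom f ≫ eA.inv.left).continuous
  let g₀ := (Spec.preimage ψ).hom
  have hg₀ : Spec.map (CommRingCat.ofHom g₀) = ψ := Spec.map_preimage ψ
  have hψc : ψ ≫ Spec.map (CommRingCat.ofHom (algebraMap k A)) =
      Spec.map (CommRingCat.ofHom (algebraMap k (Localization.Away h))) := by
    show (φ.left ≫ pullback.fst G.hom f ≫ eA.inv.left) ≫ _ = _
    rw [Category.assoc, Category.assoc, show eA.inv.left ≫ Spec.map (CommRingCat.ofHom (algebraMap k A)) = G.hom from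
      Over.w eA.inv, pullback.condition, ← Category.assoc, show φ.left ≫ pullback.snd G.hom f = _ from Over.w φ]
    show Spec.map _ ≫ Spec.map _ = Spec.map _
    rw [← Spec.map_comp]
    exact congrArg Spec.map (CommRingCat.hom_ext (RingHom.ext fun c =>
      (IsScalarTower.algebraMap_apply k K (Localization.Away h) c).symm))
  let g : A →ₐ[k] Localization.Away h :=
    { g₀ with
      commutes' := fun c => by
        have h1 := hψc
        rw [← hg₀, ← Spec.map_comp, Spec.map_inj] at h1
        exact RingHom.congr_fun (congrArg CommRingCat.Hom.hom h1) c }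
  have hgi : Function.Injective g := by
    have h1 : DenseRange (PrimeSpectrum.comap g₀) := by rw [← hg₀] at hψd; exact hψd
    rw [PrimeSpectrum.denseRange_comap_iff_ker_le_nilRadical, nilradical_eq_zero] at h1
    exact (RingHom.injective_iff_ker_eq_bot g₀).2 (le_bot_iff.1 h1)
  -- a finite level containing everything
  obtain ⟨s, hs⟩ := Algebra.FiniteType.out (R := k) (A := A)
  obtain ⟨P, e, hP⟩ := exists_fractions h g s
  let S : Finset K := (insert h (s.image P)).biUnion fun q => q.support.image q.coeff
  choose lv hlv using fun x : K => PerfectClosure.mk_surjective L p x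
  haveI : Fintype k := Fintype.ofFinite k
  obtain ⟨d, -, hd⟩ := FiniteField.card k p
  let N : ℕ := (d : ℕ) * (S.sup (fun x => (lv x).1) + 1)
  have hN : ∀ x ∈ S, x ∈ (level (k := k) p N).range := fun x hx => by
    rw [← hlv x]
    refine mem_range_level p ?_ (lv x).2
    calc (lv x).1 ≤ S.sup (fun x => (lv x).1) + 1 := (Finset.le_sup (f := fun x => (lv x).1) hx).trans (Nat.le_succ _)
      _ ≤ N := Nat.le_mul_of_pos_left _ d.pos
  have hlc : ∀ c : k, level (k := k) p N (algebraMap k L c) = algebraMap k K c := fun c => by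
    have e1 : (frobenius L p)^[N] (algebraMap k L c) = algebraMap k L c := by
      rw [iterate_frobenius, ← map_pow, pow_mul, ← hd, FiniteField.pow_card_pow]
    show PerfectClosure.mk L p (N, _) = PerfectClosure.mk L p (0, _)
    have e2 := PerfectClosure.R.sound L p N 0 (algebraMap k L c) _ e1
    rw [add_zero] at e2
    exact e2.symm
  let σ : L →ₐ[k] K := { level (k := k) p N with commutes' := hlc }
  let j : MvPolynomial (Fin n) L →ₐ[k] MvPolynomial (Fin n) K := MvPolynomial.mapAlgHom σ
  have hj : Function.Injective j := MvPolynomial.map_injective _ (level (k := k) p N).injective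
  have hjr : ∀ q ∈ insert h (s.image P), ∃ v, j v = q := fun q hq => by
    have : q ∈ (MvPolynomial.map (σ := Fin n) (level (k := k) p N)).range := by
      rw [← SetLike.mem_coe, RingHom.coe_range, MvPolynomial.mem_range_map_iff_coeffs_subset]
      intro c hc
      rw [Finset.mem_coe, MvPolynomial.mem_coeffs_iff] at hc
      obtain ⟨d, hd, rfl⟩ := hc
      exact hN _ (Finset.mem_biUnion.2 ⟨q, hq, Finset.mem_image.2 ⟨d, hd, rfl⟩⟩)
    exact this
  obtain ⟨h₁, hh₁⟩ := hjr h (Finset.mem_insert_self _ _)
  have h₁0 : h₁ ≠ 0 := fun e0 => h0 (by rw [← hh₁, e0, map_zero])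
  have hu : IsUnit (algebraMap _ (Localization.Away h) (j h₁)) := by
    rw [hh₁]; exact IsLocalization.Away.algebraMap_isUnit h
  obtain ⟨g₁, hg₁⟩ := factor_away j hj h₁ h₁0 h h0 hu g hgi (s : Set A) hs fun a ha => by
    obtain ⟨v, hv⟩ := hjr (P a) (Finset.mem_insert_of_mem (Finset.mem_image_of_mem P ha))
    exact ⟨v, e a, by rw [hh₁, hv]; exact hP a ha⟩
  obtain ⟨H, hH, g₂, hg₂⟩ := exists_embed_ratFunc h₁ h₁0 g₁ hg₁
  refine of_denseRange eA.hom eA.hom.left.surjective.denseRange ?_
  exact of_injective' H hH g₂ hg₂

end Groth.Agent.Unirat
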