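import Groth.Agent.UnipSplit.Dense

/-!
# Unirational schemes over a field

A scheme over a field is unirational when a basic open subset of an affine space maps to it dominantly.
-/

set_option autoImplicit false
set_option linter.style.haveILetI false
set_option linter.unusedSectionVars false
set_option backward.isDefEq.respectTransparency false
set_option maxHeartbeats 1000000
set_option synthInstance.maxHeartbeats 400000

universe u

open CategoryTheory CategoryTheory.Limits MonoidalCategory CartesianMonoidalCategory AlgebraicGeometry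
open TensorProduct
open Groth.Agent.UnipSplit (spk spkIso spkTensor)

noncomputable section

namespace Groth.Agent.Unirat

variable {k : Type u} [Field k]

/-- A map of algebras on spectra. -/
def spkMap {A B : Type u} [CommRing A] [Algebra k A] [CommRing B] [Algebra k B] (f : A →ₐ[k] B) : spk k B ⟶ spk k A :=
  Over.homMk (Spec.map (CommRingCat.ofHom f.toRingHom)) (by
    show Spec.map _ ≫ Spec.map _ = Spec.map _
    rw [← Spec.map_comp]
    exact congrArg Spec.map (CommRingCat.hom_ext (RingHom.ext fun c => f.commutes c)))

/-- Injective maps of algebras give dominant maps of spectra. -/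
theorem denseRange_spkMap {A B : Type u} [CommRing A] [Algebra k A] [CommRing B] [Algebra k B] (f : A →ₐ[k] B)
    (hf : Function.Injective f) : DenseRange (spkMap f).left := by
  show DenseRange (PrimeSpectrum.comap f.toRingHom)
  rw [PrimeSpectrum.denseRange_comap_iff_ker_le_nilRadical]
  intro x hx
  rw [show x = 0 from hf (by rw [map_zero]; exact hx)]
  exact zero_mem _

/-- A basic open subset of affine space. -/
abbrev Box (n : ℕ) (h : MvPolynomial (Fin n) k) : Over (Spec (CommRingCat.of k)) := spk k (Localization.Away h)

/-- Unirationality. -/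
def Unirat (X : Over (Spec (CommRingCat.of k))) : Prop :=
  ∃ (n : ℕ) (h : MvPolynomial (Fin n) k), h ≠ 0 ∧ ∃ φ : Box n h ⟶ X, DenseRange φ.left

/-- Unirationality passes along dominant morphisms. -/
theorem of_denseRange {X Y : Over (Spec (CommRingCat.of k))} (f : X ⟶ Y) (hf : DenseRange f.left) (hX : Unirat X) :
    Unirat Y := by
  obtain ⟨n, h, h0, φ, hφ⟩ := hX
  refine ⟨n, h, h0, φ ≫ f, ?_⟩
  rw [Over.comp_left]
  exact hf.comp hφ f.left.continuous

/-- An affine scheme embedded in a function ring is unirational. -/
theorem of_injective {A : Type u} [CommRing A] [Algebra k A] {n : ℕ} (h : MvPolynomial (Fin n) k) (h0 : h ≠ 0)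
    (f : A →ₐ[k] Localization.Away h) (hf : Function.Injective f) : Unirat (spk k A) :=
  ⟨n, h, h0, spkMap f, denseRange_spkMap f hf⟩

/-- An affine scheme embedded in a function ring with arbitrary finite index type is unirational. -/
theorem of_injective' {A : Type u} [CommRing A] [Algebra k A] {ι' : Type} [Finite ι'] (h : MvPolynomial ι' k)
    (h0 : h ≠ 0) (f : A →ₐ[k] Localization.Away h) (hf : Function.Injective f) : Unirat (spk k A) := by
  obtain ⟨n, ⟨e⟩⟩ := Finite.exists_equiv_fin ι'
  let E : MvPolynomial ι' k ≃ₐ[k] MvPolynomial (Fin n) k := MvPolynomial.renameEquiv k e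
  let g : Localization.Away h →ₐ[k] Localization.Away (E h) :=
    IsLocalization.liftAlgHom (M := Submonoid.powers h)
      (f := (IsScalarTower.toAlgHom k (MvPolynomial (Fin n) k) (Localization.Away (E h))).comp E.toAlgHom)
      (fun y => by
        obtain ⟨m, hm⟩ := y.2
        rw [← hm, map_pow]
        exact (IsLocalization.Away.algebraMap_isUnit (E h)).pow m)
  have hg : Function.Injective g := by
    rw [injective_iff_map_eq_zero]
    intro x hx
    obtain ⟨y, s, rfl⟩ := IsLocalization.exists_mk'_eq (Submonoid.powers h) x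
    have h1 : g (algebraMap _ _ y) = 0 := by
      rw [← IsLocalization.mk'_spec (Localization.Away h) y s, map_mul, hx, zero_mul]
    rw [IsLocalization.liftAlgHom_apply, IsLocalization.lift_eq] at h1
    have h2 : E y = 0 := by
      refine (IsLocalization.injective (Localization.Away (E h))
        (powers_le_nonZeroDivisors_of_noZeroDivisors fun h3 => h0 (E.injective (h3.trans (map_zero E).symm))))
        (h1.trans (map_zero _).symm)
    rw [show y = 0 from E.injective (h2.trans (map_zero E).symm), IsLocalization.mk'_zero]
  exact of_injective (E h) (fun h3 => h0 (E.injective (h3.trans (map_zero E).symm))) (g.comp f) (hg.comp hf)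

/-- Affine spaces are unirational. -/
theorem unirat_spk (n : ℕ) : Unirat (spk k (MvPolynomial (Fin n) k)) :=
  of_injective (1 : MvPolynomial (Fin n) k) one_ne_zero (IsScalarTower.toAlgHom k _ _)
    (IsLocalization.injective _ (powers_le_nonZeroDivisors_of_noZeroDivisors one_ne_zero))

/-- Whiskering is a base change. -/
theorem isPullback_whisker {A B : Over (Spec (CommRingCat.of k))} (f : A ⟶ B) (T : Over (Spec (CommRingCat.of k))) :
    IsPullback (fst A T).left (f ▷ T).left f.left (fst B T).left := by
  refine (IsPullback.of_right (h₁₁ := (f ▷ T).left) (h₁₂ := (snd B T).left)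
    (v₁₁ := (fst A T).left) (v₁₂ := (fst B T).left) (v₁₃ := T.hom)
    (h₂₁ := f.left) (h₂₂ := B.hom) ?_ (congrArg (fun m => m.left) (whiskerRight_fst f T))
    (IsPullback.of_hasPullback _ _).flip).flip
  rw [show f.left ≫ B.hom = A.hom from Over.w f, ← Over.comp_left, whiskerRight_snd]
  exact (IsPullback.of_hasPullback _ _).flip

/-- Dominant morphisms stay dominant after taking a product. -/
theorem denseRange_whiskerRight {X X' : Over (Spec (CommRingCat.of k))} (Y : Over (Spec (CommRingCat.of k)))
    (f : X ⟶ X') (hf : DenseRange f.left) : DenseRange (f ▷ Y).left := by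
  haveI : UniversallyOpen (fst X' Y).left := inferInstanceAs (UniversallyOpen (pullback.fst X'.hom Y.hom))
  refine dense_iff_inter_open.2 fun W hW hne => ?_
  obtain ⟨w₀, hw₀⟩ := hne
  obtain ⟨_, ⟨w, hwW, hw⟩, x, rfl⟩ :=
    hf.inter_open_nonempty _ ((fst X' Y).left.isOpenMap W hW) ⟨_, w₀, hw₀, rfl⟩
  obtain ⟨p, -, hp⟩ := Scheme.exists_preimage_of_isPullback (isPullback_whisker f Y) x w hw.symm
  exact ⟨_, hwW, p, hp⟩

/-- The same on the other side. -/
theorem denseRange_whiskerLeft {Y Y' : Over (Spec (CommRingCat.of k))} (X : Over (Spec (CommRingCat.of k)))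
    (g : Y ⟶ Y') (hg : DenseRange g.left) : DenseRange (X ◁ g).left := by
  rw [show X ◁ g = (β_ X Y).hom ≫ (g ▷ X) ≫ (β_ Y' X).hom by simp, Over.comp_left, Over.comp_left]
  haveI : IsIso (β_ X Y).hom.left := inferInstanceAs (IsIso ((Over.forget _).map (β_ X Y).hom))
  haveI : IsIso (β_ Y' X).hom.left := inferInstanceAs (IsIso ((Over.forget _).map (β_ Y' X).hom))
  exact (β_ Y' X).hom.left.surjective.denseRange.comp
    ((denseRange_whiskerRight X g hg).comp (β_ X Y).hom.left.surjective.denseRange (g ▷ X).left.continuous)
    (β_ Y' X).hom.left.continuous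

/-- A product of two boxes is dominated by a box. -/
theorem unirat_box_tensor {n m : ℕ} (h : MvPolynomial (Fin n) k) (g : MvPolynomial (Fin m) k) (h0 : h ≠ 0)
    (g0 : g ≠ 0) : Unirat (Box n h ⊗ Box m g) := by
  let P := MvPolynomial (Fin n ⊕ Fin m) k
  let iL : MvPolynomial (Fin n) k →ₐ[k] P := MvPolynomial.rename Sum.inl
  let iR : MvPolynomial (Fin m) k →ₐ[k] P := MvPolynomial.rename Sum.inr
  let H : P := iL h * iR g
  have hH : H ≠ 0 := mul_ne_zero
    (fun e => h0 (MvPolynomial.rename_injective _ Sum.inl_injective (e.trans (map_zero iL).symm)))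
    (fun e => g0 (MvPolynomial.rename_injective _ Sum.inr_injective (e.trans (map_zero iR).symm)))
  let L := Localization.Away H
  have hu : IsUnit (algebraMap P L (iL h)) ∧ IsUnit (algebraMap P L (iR g)) := by
    have := IsLocalization.Away.algebraMap_isUnit (S := L) H
    rwa [map_mul, IsUnit.mul_iff] at this
  let TL : Localization.Away h →ₐ[k] L :=
    IsLocalization.liftAlgHom (M := Submonoid.powers h) (f := (IsScalarTower.toAlgHom k P L).comp iL)
      (fun y => by obtain ⟨j, hj⟩ := y.2; rw [← hj, map_pow]; exact hu.1.pow j)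
  let TR : Localization.Away g →ₐ[k] L :=
    IsLocalization.liftAlgHom (M := Submonoid.powers g) (f := (IsScalarTower.toAlgHom k P L).comp iR)
      (fun y => by obtain ⟨j, hj⟩ := y.2; rw [← hj, map_pow]; exact hu.2.pow j)
  let T : Localization.Away h ⊗[k] Localization.Away g →ₐ[k] L :=
    Algebra.TensorProduct.lift TL TR fun _ _ => Commute.all _ _
  let s : P →ₐ[k] Localization.Away h ⊗[k] Localization.Away g :=
    MvPolynomial.aeval (Sum.elim
      (fun i => algebraMap (MvPolynomial (Fin n) k) (Localization.Away h) (MvPolynomial.X i) ⊗ₜ[k] (1 : Localization.Away g))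
      (fun j => (1 : Localization.Away h) ⊗ₜ[k] algebraMap (MvPolynomial (Fin m) k) (Localization.Away g) (MvPolynomial.X j)))
  have hsL : ∀ p, s (iL p) = algebraMap (MvPolynomial (Fin n) k) (Localization.Away h) p ⊗ₜ[k] (1 : Localization.Away g) := by
    have e : s.comp iL = (Algebra.TensorProduct.includeLeft (S := k) (A := Localization.Away h)
        (B := Localization.Away g)).comp (IsScalarTower.toAlgHom k (MvPolynomial (Fin n) k) (Localization.Away h)) := by
      refine MvPolynomial.algHom_ext fun i => ?_
      show MvPolynomial.aeval _ (MvPolynomial.rename Sum.inl (MvPolynomial.X i)) = _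
      rw [MvPolynomial.rename_X, MvPolynomial.aeval_X]
      rfl
    exact fun p => DFunLike.congr_fun e p
  have hsR : ∀ p, s (iR p) = (1 : Localization.Away h) ⊗ₜ[k] algebraMap (MvPolynomial (Fin m) k) (Localization.Away g) p := by
    have e : s.comp iR = (Algebra.TensorProduct.includeRight (A := Localization.Away h)
        (B := Localization.Away g)).comp (IsScalarTower.toAlgHom k (MvPolynomial (Fin m) k) (Localization.Away g)) := by
      refine MvPolynomial.algHom_ext fun i => ?_
      show MvPolynomial.aeval _ (MvPolynomial.rename Sum.inr (MvPolynomial.X i)) = _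
      rw [MvPolynomial.rename_X, MvPolynomial.aeval_X]
      rfl
    exact fun p => DFunLike.congr_fun e p
  have hsH : IsUnit (s H) := by
    rw [map_mul]
    refine IsUnit.mul ?_ ?_
    · rw [hsL]
      exact (IsLocalization.Away.algebraMap_isUnit h).map
        (Algebra.TensorProduct.includeLeft (S := k) (A := Localization.Away h) (B := Localization.Away g))
    · rw [hsR]
      exact (IsLocalization.Away.algebraMap_isUnit g).map
        (Algebra.TensorProduct.includeRight (R := k) (A := Localization.Away h) (B := Localization.Away g))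
  let S : L →ₐ[k] Localization.Away h ⊗[k] Localization.Away g :=
    IsLocalization.liftAlgHom (M := Submonoid.powers H) (f := s)
      (fun y => by obtain ⟨j, hj⟩ := y.2; rw [← hj, map_pow]; exact hsH.pow j)
  have hS : ∀ p, S (algebraMap P L p) = s p := fun p => IsLocalization.lift_eq _ _
  have hTL : ∀ p, TL (algebraMap _ _ p) = algebraMap P L (iL p) := fun p => IsLocalization.lift_eq _ _
  have hTR : ∀ p, TR (algebraMap _ _ p) = algebraMap P L (iR p) := fun p => IsLocalization.lift_eq _ _
  have e1 : S.comp TL = Algebra.TensorProduct.includeLeft (S := k) (A := Localization.Away h)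
      (B := Localization.Away g) := by
    refine IsLocalization.algHom_ext (Submonoid.powers h) (AlgHom.ext fun p => ?_)
    show S (TL (algebraMap _ _ p)) = _
    rw [hTL, hS, hsL]
    rfl
  have e2 : S.comp TR = Algebra.TensorProduct.includeRight (R := k) (A := Localization.Away h)
      (B := Localization.Away g) := by
    refine IsLocalization.algHom_ext (Submonoid.powers g) (AlgHom.ext fun p => ?_)
    show S (TR (algebraMap _ _ p)) = _
    rw [hTR, hS, hsR]
    rfl
  have hST : ∀ x, S (T x) = x := fun x => by
    induction x using TensorProduct.induction_on with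
    | zero => rw [map_zero, map_zero]
    | add a b ha hb => rw [map_add, map_add, ha, hb]
    | tmul a b =>
      rw [Algebra.TensorProduct.lift_tmul, map_mul]
      show (S.comp TL) a * (S.comp TR) b = _
      rw [e1, e2]
      show (a ⊗ₜ[k] (1 : Localization.Away g)) * ((1 : Localization.Away h) ⊗ₜ[k] b) = _
      rw [Algebra.TensorProduct.tmul_mul_tmul, mul_one, one_mul]
  have hT : Function.Injective T := fun x y hxy => by
    rw [← hST x, ← hST y, hxy]
  refine of_denseRange (spkTensor _ _).inv ?_ (of_injective' H hH T hT)
  haveI : IsIso (spkTensor (k := k) (Localization.Away h) (Localization.Away g)).inv.left :=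
    inferInstanceAs (IsIso ((Over.forget _).map (spkTensor _ _).inv))
  exact (spkTensor (k := k) _ _).inv.left.surjective.denseRange

/-- Products of unirational schemes are unirational. -/
theorem unirat_prod {X Y : Over (Spec (CommRingCat.of k))} (hX : Unirat X) (hY : Unirat Y) : Unirat (X ⊗ Y) := by
  obtain ⟨n, h, h0, φ, hφ⟩ := hX
  obtain ⟨m, g, g0, ψ, hψ⟩ := hY
  exact of_denseRange (X ◁ ψ) (denseRange_whiskerLeft X ψ hψ)
    (of_denseRange (φ ▷ Box m g) (denseRange_whiskerRight _ φ hφ) (unirat_box_tensor h g h0 g0))

/-- The terminal scheme is unirational. -/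
theorem unirat_unit : Unirat (𝟙_ (Over (Spec (CommRingCat.of k)))) := by
  refine of_denseRange (toUnit _) ?_ (unirat_spk (k := k) 0)
  haveI : Nonempty (spk k (MvPolynomial (Fin 0) k)).left :=
    inferInstanceAs (Nonempty (PrimeSpectrum (MvPolynomial (Fin 0) k)))
  haveI : Subsingleton ↥(𝟙_ (Over (Spec (CommRingCat.of k)))).left := inferInstanceAs (Subsingleton (PrimeSpectrum k))
  exact Function.Surjective.denseRange fun y => ⟨Classical.arbitrary _, Subsingleton.elim _ _⟩

/-- The formulation with open subschemes of affine space. -/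
theorem exists_opens {X : Over (Spec (CommRingCat.of k))} (hX : Unirat X) :
    ∃ (n : ℕ) (V : (AffineSpace (ULift.{u} (Fin n)) (Spec (CommRingCat.of k))).Opens) (φ : (V : Scheme.{u}) ⟶ X.left),
      (V : Set ↥(AffineSpace (ULift.{u} (Fin n)) (Spec (CommRingCat.of k)))).Nonempty ∧ DenseRange φ.base ∧
      φ ≫ X.hom = V.ι ≫ (AffineSpace (ULift.{u} (Fin n)) (Spec (CommRingCat.of k)) ↘ (Spec (CommRingCat.of k))) := by
  obtain ⟨n, h, h0, φ, hφ⟩ := hX
  let E : MvPolynomial (ULift.{u} (Fin n)) k ≃ₐ[k] MvPolynomial (Fin n) k := MvPolynomial.renameEquiv k Equiv.ulift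
  let a : CommRingCat.of (MvPolynomial (ULift.{u} (Fin n)) k) ⟶ CommRingCat.of (Localization.Away h) :=
    CommRingCat.ofHom (((algebraMap (MvPolynomial (Fin n) k) (Localization.Away h)).comp E.toRingEquiv.toRingHom))
  haveI : IsOpenImmersion (Spec.map (CommRingCat.ofHom (algebraMap (MvPolynomial (Fin n) k) (Localization.Away h)))) :=
    IsOpenImmersion.of_isLocalization h
  haveI : IsIso (CommRingCat.ofHom E.toRingEquiv.toRingHom) := E.toRingEquiv.toCommRingCatIso.isIso_hom
  haveI : IsOpenImmersion (Spec.map a) := by
    rw [show a = CommRingCat.ofHom E.toRingEquiv.toRingHom ≫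
      CommRingCat.ofHom (algebraMap (MvPolynomial (Fin n) k) (Localization.Away h)) from rfl, Spec.map_comp]
    infer_instance
  let j : (Box n h).left ⟶ AffineSpace (ULift.{u} (Fin n)) (Spec (CommRingCat.of k)) :=
    Spec.map a ≫ (AffineSpace.SpecIso (ULift.{u} (Fin n)) (CommRingCat.of k)).inv
  refine ⟨n, j.opensRange, j.isoOpensRange.inv ≫ φ.left, ?_, ?_, ?_⟩
  · haveI : IsDomain (Localization.Away h) :=
      IsLocalization.isDomain_localization (powers_le_nonZeroDivisors_of_noZeroDivisors h0)
    haveI : Nonempty (Box n h).left := inferInstanceAs (Nonempty (PrimeSpectrum (Localization.Away h)))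
    exact Set.range_nonempty _
  · exact hφ.comp j.isoOpensRange.inv.surjective.denseRange φ.left.continuous
  · rw [Category.assoc, Over.w, Iso.inv_comp_eq, ← Category.assoc, Scheme.Hom.isoOpensRange_hom_ι]
    show Spec.map _ = (Spec.map a ≫ _) ≫ _
    rw [Category.assoc, AffineSpace.SpecIso_inv_over, ← Spec.map_comp]
    refine congrArg Spec.map (CommRingCat.hom_ext (RingHom.ext fun c => ?_))
    show algebraMap k (Localization.Away h) c = algebraMap (MvPolynomial (Fin n) k) _ (E (MvPolynomial.C c))
    rw [show E (MvPolynomial.C c) = algebraMap k _ c from E.commutes c, ← IsScalarTower.algebraMap_apply]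

end Groth.Agent.Unirat
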