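import Groth.Agent.Unirat.Torus
import Groth.Agent.DensePtsGrp.Cartan
import Groth.Agent.Chev.CentDense
import Groth.Agent.Chev.CentBC
import Groth.Agent.S3940

/-!
# Unirationality of affine groups over infinite perfect fields

The subgroup generated by the conjugates of a Cartan subgroup by rational points is everything, as rational
points are dense and the conjugates of a Cartan subgroup are dense.
-/

set_option autoImplicit false
set_option linter.style.haveILetI false
set_option linter.unusedSectionVars false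
set_option backward.isDefEq.respectTransparency false
set_option maxHeartbeats 1000000
set_option synthInstance.maxHeartbeats 400000

universe u

open CategoryTheory CategoryTheory.Limits MonoidalCategory CartesianMonoidalCategory MonObj GrpObj AlgebraicGeometry
open TensorProduct
open Groth.Agent.GrMax (fieldMap)
open Groth.Agent.UnipSplit (spk)

noncomputable section

namespace Groth.Agent.Unirat

variable {k : Type u} [Field k]

/-- Conjugation of a subscheme, as a morphism. -/
abbrev cj {G C : Over (Spec (CommRingCat.of k))} [GrpObj G] (c : C ⟶ G) : G ⊗ C ⟶ G :=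
  fst G C * (snd G C ≫ c) * (fst G C)⁻¹

/-- The conjugates of a Cartan subgroup are dense. -/
theorem denseRange_cj {G T C : Over (Spec (CommRingCat.of k))} [GrpObj G] [GrpObj T] [GrpObj C] [IsAffine G.left]
    [Smooth G.hom] [ConnectedSpace G.left] (i : T ⟶ G) (hi : Red.IsMaximalTorus i) (c : C ⟶ G)
    (hc : Red.IsCentralizerOf i c) : DenseRange (cj c).left := by
  haveI : IsAffineHom G.hom := isAffineHom_of_isAffine _
  let L := AlgebraicClosure k
  let f := fieldMap (k := k) L
  let F := Over.pullback f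
  haveI : IsAffineHom (Red.bc f G).hom := inferInstanceAs (IsAffineHom (pullback.snd G.hom f))
  haveI : IsAffine (Red.bc f G).left := isAffine_of_isAffineHom (Red.bc f G).hom
  haveI : Smooth (Red.bc f G).hom := inferInstanceAs (Smooth (pullback.snd G.hom f))
  haveI : ConnectedSpace (Red.bc f G).left := AutFinOrd.connectedSpace_bc f G
  haveI : IsAffine (F.obj G).left := ‹IsAffine (Red.bc f G).left›
  haveI : Smooth (F.obj G).hom := ‹Smooth (Red.bc f G).hom›
  haveI : ConnectedSpace (F.obj G).left := ‹ConnectedSpace (Red.bc f G).left›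
  have hd := Chev.Borel.denseRange_conjMap (F.map i)
    (Chev.Borel.isMaxTorus_of_isMaximalTorus _ (Chev.MaxTorusBC.isMaximalTorus_bc i hi f)) (F.map c)
    (Chev.CentBC.isCentralizerOf_bc f i c hc)
  have hF : Functor.LaxMonoidal.μ F G C ≫ F.map (cj c) = Chev.Borel.conjMap (F.map c) := by
    simp only [Chev.Borel.conjMap, cj, Functor.map_mul, Functor.map_inv', MonObj.comp_mul, GrpObj.comp_inv,
      Functor.map_comp, Functor.Monoidal.μ_fst, Functor.Monoidal.μ_snd_assoc]
  rw [← hF, Over.comp_left] at hd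
  have hd' : DenseRange (F.map (cj c)).left := hd.mono (by
    rintro _ ⟨x, rfl⟩
    exact ⟨_, (Scheme.Hom.comp_apply _ _ x).symm⟩)
  haveI : Surjective f := inferInstance
  have hs : Surjective (pullback.fst G.hom f) := inferInstance
  refine (hs.surj.denseRange.comp hd' (pullback.fst G.hom f).continuous).mono ?_
  rintro _ ⟨x, rfl⟩
  refine ⟨pullback.fst (G ⊗ C).hom f x, ?_⟩
  show (cj c).left (pullback.fst (G ⊗ C).hom f x) = pullback.fst G.hom f ((F.map (cj c)).left x)
  refine (Scheme.Hom.comp_apply _ _ x).symm.trans (Eq.trans ?_ (Scheme.Hom.comp_apply _ _ x))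
  exact congrArg (fun t : pullback (G ⊗ C).hom f ⟶ G.left => t x) (pullback.lift_fst _ _ _).symm

/-- A point over a rational point lies on the slice. -/
theorem mem_range_slice {X Y : Over (Spec (CommRingCat.of k))} (y : 𝟙_ (Over (Spec (CommRingCat.of k))) ⟶ Y)
    (w : (X ⊗ Y).left) (hw : y.left (IsLocalRing.closedPoint k) = (snd X Y).left w) :
    w ∈ Set.range (lift (𝟙 X) (toUnit X ≫ y)).left := by
  let σ : pullback X.hom (𝟙 (Spec (CommRingCat.of k))) ⟶ pullback X.hom Y.hom :=
    pullback.map _ _ _ _ (𝟙 _) y.left (𝟙 _) (by simp) (by simpa using (Over.w y).symm)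
  have hr : w ∈ Set.range σ := by
    rw [Scheme.Pullback.range_map]
    exact ⟨⟨_, rfl⟩, ⟨_, hw⟩⟩
  obtain ⟨t, ht⟩ := hr
  refine ⟨pullback.fst X.hom (𝟙 _) t, ?_⟩
  rw [← ht, ← Scheme.Hom.comp_apply]
  have h : pullback.fst X.hom (𝟙 _) ≫ (lift (𝟙 X) (toUnit X ≫ y)).left = σ := by
    refine pullback.hom_ext ?_ ?_
    · rw [Category.assoc, show (lift (𝟙 X) (toUnit X ≫ y)).left ≫ pullback.fst X.hom Y.hom = 𝟙 X.left from
        congrArg (fun m => m.left) (lift_fst (𝟙 X) (toUnit X ≫ y)), Category.comp_id]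
      simp [σ]
    · rw [Category.assoc, show (lift (𝟙 X) (toUnit X ≫ y)).left ≫ pullback.snd X.hom Y.hom = (toUnit X ≫ y).left from
        congrArg (fun m => m.left) (lift_snd (𝟙 X) (toUnit X ≫ y))]
      simp only [σ, pullback.map, pullback.lift_snd]
      show pullback.fst X.hom _ ≫ X.hom ≫ y.left = pullback.snd X.hom _ ≫ y.left
      rw [pullback.condition_assoc]
      exact congrArg (pullback.snd X.hom _ ≫ ·) (Category.id_comp _)
  exact congrArg (fun m : pullback X.hom (𝟙 (Spec (CommRingCat.of k))) ⟶ _ => m t) h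

/-- A largest closed unirational subset through the identity. -/
theorem exists_maximal (G : Over (Spec (CommRingCat.of k))) [GrpObj G] [IsAffine G.left] [LocallyOfFiniteType G.hom] :
    ∃ (n : ℕ) (h : MvPolynomial (Fin n) k) (φ : Box n h ⟶ G), h ≠ 0 ∧
      η[G].left (IsLocalRing.closedPoint k) ∈ closure (Set.range φ.left) ∧
      ∀ (m : ℕ) (h' : MvPolynomial (Fin m) k) (φ' : Box m h' ⟶ G), h' ≠ 0 →
        closure (Set.range φ.left) ⊆ closure (Set.range φ'.left) →
          closure (Set.range φ'.left) ⊆ closure (Set.range φ.left) := by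
  classical
  let A := Γ(G.left, ⊤)
  haveI : IsNoetherianRing A := by
    haveI : IsLocallyNoetherian G.left := LocallyOfFiniteType.isLocallyNoetherian G.hom
    exact IsLocallyNoetherian.component_noetherian ⟨⊤, isAffineOpen_top G.left⟩
  let ψ := G.left.isoSpec.hom
  have hgen : ∀ (m : ℕ) (h' : MvPolynomial (Fin m) k) (φ' : Box m h' ⟶ G), h' ≠ 0 →
      ∃ x : G.left, closure (Set.range φ'.left) = closure {x} := fun m h' φ' h0 => by
    haveI : IsDomain (Localization.Away h') :=
      IsLocalization.isDomain_localization (powers_le_nonZeroDivisors_of_noZeroDivisors h0)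
    haveI : IrreducibleSpace (Box m h').left :=
      inferInstanceAs (IrreducibleSpace (PrimeSpectrum (Localization.Away h')))
    exact ⟨φ'.left (genericPoint (Box m h').left), by
      rw [← Set.image_univ]
      exact ((genericPoint_spec _).image φ'.left.continuous).def.symm⟩
  let P : G.left → Prop := fun x => ∃ (m : ℕ) (h' : MvPolynomial (Fin m) k) (φ' : Box m h' ⟶ G), h' ≠ 0 ∧
    closure (Set.range φ'.left) = closure {x} ∧ η[G].left (IsLocalRing.closedPoint k) ∈ closure (Set.range φ'.left)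
  have hne : ∃ x, P x := by
    let φ₁ : Box 0 (1 : MvPolynomial (Fin 0) k) ⟶ G := toUnit _ ≫ η[G]
    obtain ⟨x, hx⟩ := hgen 0 1 φ₁ one_ne_zero
    refine ⟨x, 0, 1, φ₁, one_ne_zero, hx, subset_closure ?_⟩
    haveI : IsDomain (Localization.Away (1 : MvPolynomial (Fin 0) k)) :=
      IsLocalization.isDomain_localization (powers_le_nonZeroDivisors_of_noZeroDivisors one_ne_zero)
    haveI : Nonempty (Box 0 (1 : MvPolynomial (Fin 0) k)).left :=
      inferInstanceAs (Nonempty (PrimeSpectrum (Localization.Away (1 : MvPolynomial (Fin 0) k))))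
    haveI : Subsingleton ↥(𝟙_ (Over (Spec (CommRingCat.of k)))).left := inferInstanceAs (Subsingleton (PrimeSpectrum k))
    refine ⟨Classical.arbitrary _, ?_⟩
    rw [Over.comp_left, Scheme.Hom.comp_apply]
    exact congrArg _ (Subsingleton.elim _ _)
  obtain ⟨x, ⟨n, h, φ, h0, hx, h1⟩, hmin⟩ := exists_minimalFor_of_wellFoundedLT P
    (fun y => (ψ y : PrimeSpectrum A).asIdeal.height) hne
  refine ⟨n, h, φ, h0, h1, fun m h' φ' h0' hle => ?_⟩
  obtain ⟨y, hy⟩ := hgen m h' φ' h0'
  have hyP : P y := ⟨m, h', φ', h0', hy, hle h1⟩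
  have hsp : y ⤳ x := specializes_iff_mem_closure.2 (hy ▸ hle (hx.symm ▸ subset_closure rfl))
  have hyx : (ψ y : PrimeSpectrum A).asIdeal ≤ (ψ x : PrimeSpectrum A).asIdeal :=
    (PrimeSpectrum.le_iff_specializes (ψ y) (ψ x)).2 (hsp.map ψ.continuous)
  have hht := hmin hyP (Ideal.height_mono hyx)
  have he : (ψ y : PrimeSpectrum A).asIdeal = (ψ x : PrimeSpectrum A).asIdeal := by
    by_contra hne'
    haveI := (ψ y : PrimeSpectrum A).isPrime
    haveI := (ψ x : PrimeSpectrum A).isPrime
    exact absurd hht (not_le.2 (Ideal.height_strict_mono_of_isPrime_of_isPrime (lt_of_le_of_ne hyx hne')))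
  have he' : y = x := ψ.homeomorph.injective (PrimeSpectrum.ext he)
  rw [hy, hx, he']

/-- **Affine groups over infinite perfect fields are unirational.** -/
theorem unirat_group [PerfectField k] [Infinite k] (G : Over (Spec (CommRingCat.of k))) [GrpObj G] [IsAffine G.left]
    [Smooth G.hom] [ConnectedSpace G.left] : Unirat G := by
  classical
  haveI : IsAffineHom G.hom := isAffineHom_of_isAffine _
  haveI : LocallyOfFiniteType G.hom := inferInstance
  obtain ⟨T, _, i, hi⟩ := GrMax.exists_maxTorus G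
  obtain ⟨C, _, c, hc, -, hcart, -⟩ := Groth.Agent.S4118.result _ G T i hi
  haveI := hc.1
  have hC : Unirat C := by
    obtain ⟨T', Q, _, _, Φ, hT', hQa, hQs, hQc, hQ, hΦ⟩ := DensePtsGrp.exists_cover_cartan c hcart
    haveI := hQa; haveI := hQs; haveI := hQc; haveI := hΦ
    haveI : IsIso Φ.left := inferInstanceAs (IsIso ((Over.forget _).map Φ))
    obtain ⟨m, ⟨eQ⟩⟩ := UnipSplit.exists_coord' Q hQ
    haveI : IsIso eQ.hom.left := inferInstanceAs (IsIso ((Over.forget _).map eQ.hom))
    exact of_denseRange Φ Φ.left.surjective.denseRange (unirat_prod (unirat_torus T' hT')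
      (of_denseRange eQ.hom eQ.hom.left.surjective.denseRange (unirat_spk m)))
  have hdense := Groth.Agent.S3940.result k G
  obtain ⟨n, h, φ, h0, h1, hmax⟩ := exists_maximal G
  refine ⟨n, h, h0, φ, ?_⟩
  let X := Box n h
  let Z : Set G.left := closure (Set.range φ.left)
  haveI : Subsingleton ↥(𝟙_ (Over (Spec (CommRingCat.of k)))).left := inferInstanceAs (Subsingleton (PrimeSpectrum k))
  -- words with one more rational conjugate stay inside
  have hstep : ∀ g : 𝟙_ (Over (Spec (CommRingCat.of k))) ⟶ G, ∀ z,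
      ((fst X C ≫ φ) * ((toUnit (X ⊗ C) ≫ g) * (snd X C ≫ c) * (toUnit (X ⊗ C) ≫ g)⁻¹)).left z ∈ Z := by
    intro g
    let ψ : X ⊗ C ⟶ G := (fst X C ≫ φ) * ((toUnit (X ⊗ C) ≫ g) * (snd X C ≫ c) * (toUnit (X ⊗ C) ≫ g)⁻¹)
    obtain ⟨m, h', h0', β, hβ⟩ := unirat_prod (⟨n, h, h0, 𝟙 _, Function.Surjective.denseRange fun x => ⟨x, rfl⟩⟩ : Unirat X) hC
    have hcl : closure (Set.range (β ≫ ψ).left) = closure (Set.range ψ.left) := by
      refine subset_antisymm (closure_mono ?_) (closure_minimal ?_ isClosed_closure)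
      · rintro _ ⟨z, rfl⟩
        exact ⟨_, by rw [Over.comp_left, Scheme.Hom.comp_apply]⟩
      · rintro _ ⟨z, rfl⟩
        have hz : z ∈ closure (Set.range β.left) := hβ z
        refine closure_mono ?_ (image_closure_subset_closure_image ψ.left.continuous ⟨z, hz, rfl⟩)
        rintro _ ⟨_, ⟨b, rfl⟩, rfl⟩
        exact ⟨b, by rw [Over.comp_left, Scheme.Hom.comp_apply]⟩
    have hslice : lift (𝟙 X) (toUnit X ≫ η[C]) ≫ ψ = φ := by
      simp only [ψ, MonObj.comp_mul, GrpObj.comp_inv, lift_fst_assoc, lift_snd_assoc, comp_toUnit_assoc,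
        Category.id_comp, Category.assoc, IsMonHom.one_hom]
      rw [← Hom.one_def, _root_.mul_one, mul_inv_cancel, _root_.mul_one]
    have hle : closure (Set.range φ.left) ⊆ closure (Set.range (β ≫ ψ).left) := by
      rw [hcl]
      refine closure_mono ?_
      rintro _ ⟨z, rfl⟩
      exact ⟨(lift (𝟙 X) (toUnit X ≫ η[C])).left z, by rw [← Scheme.Hom.comp_apply, ← Over.comp_left, hslice]⟩
    intro z
    exact hmax m h' (β ≫ ψ) h0' hle (hcl.symm ▸ subset_closure ⟨z, rfl⟩)
  -- hence all conjugates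
  let M : G ⊗ (G ⊗ C) ⟶ G := fst G (G ⊗ C) * (snd G (G ⊗ C) ≫ cj c)
  let m : (X ⊗ C) ⊗ G ⟶ G :=
    (fst _ G ≫ fst X C ≫ φ) * (snd (X ⊗ C) G * (fst _ G ≫ snd X C ≫ c) * (snd (X ⊗ C) G)⁻¹)
  have hm : ∀ w, m.left w ∈ Z := by
    haveI : UniversallyOpen (X ⊗ C).hom := by
      haveI : Flat (X ⊗ C).hom := inferInstance
      haveI := hcart.2.2.1
      haveI : LocallyOfFiniteType X.hom := by
        show LocallyOfFiniteType (Spec.map _)
        rw [HasRingHomProperty.Spec_iff (P := @LocallyOfFiniteType)]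
        exact RingHom.finiteType_algebraMap.2 inferInstance
      haveI : LocallyOfFiniteType (pullback.fst X.hom C.hom ≫ X.hom) := inferInstance
      haveI : LocallyOfFiniteType (X ⊗ C).hom := ‹LocallyOfFiniteType (pullback.fst X.hom C.hom ≫ X.hom)›
      haveI : IsLocallyNoetherian (Spec (CommRingCat.of k)) := inferInstance
      infer_instance
    haveI : UniversallyOpen (snd (X ⊗ C) G).left :=
      inferInstanceAs (UniversallyOpen (pullback.snd (X ⊗ C).hom G.hom))
    have hopen : IsClosed (m.left ⁻¹' Z) := isClosed_closure.preimage m.left.continuous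
    intro w
    by_contra hw
    obtain ⟨_, ⟨w', hw', rfl⟩, g, hg⟩ := hdense.inter_open_nonempty _
      ((snd (X ⊗ C) G).left.isOpenMap _ hopen.isOpen_compl) ⟨_, w, hw, rfl⟩
    obtain ⟨z, rfl⟩ := mem_range_slice g w' hg
    refine hw' ?_
    show m.left _ ∈ Z
    rw [← Scheme.Hom.comp_apply, ← Over.comp_left]
    have e : lift (𝟙 (X ⊗ C)) (toUnit (X ⊗ C) ≫ g) ≫ m =
        (fst X C ≫ φ) * ((toUnit (X ⊗ C) ≫ g) * (snd X C ≫ c) * (toUnit (X ⊗ C) ≫ g)⁻¹) := by
      simp only [m, MonObj.comp_mul, GrpObj.comp_inv, lift_fst_assoc, lift_snd, Category.id_comp]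
    rw [e]
    exact hstep g z
  have hcjZ : ∀ y : (G ⊗ C).left, (cj c).left y ∈ Z := by
    intro y
    let sl : G ⊗ C ⟶ G ⊗ (G ⊗ C) := lift (toUnit _ ≫ η[G]) (𝟙 _)
    have e : sl ≫ M = cj c := by
      simp only [sl, M, MonObj.comp_mul, lift_fst, lift_snd_assoc, Category.id_comp]
      rw [← Hom.one_def, _root_.one_mul]
    rw [← e, Over.comp_left, Scheme.Hom.comp_apply]
    have hr : Set.range (φ ▷ (G ⊗ C)).left = (fst G (G ⊗ C)).left ⁻¹' Set.range φ.left := by
      refine subset_antisymm ?_ fun v hv => ?_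
      · rintro _ ⟨x, rfl⟩
        exact ⟨(fst X (G ⊗ C)).left x, by
          rw [← Scheme.Hom.comp_apply, ← Scheme.Hom.comp_apply, (isPullback_whisker φ (G ⊗ C)).w]⟩
      · obtain ⟨x, hx⟩ := hv
        obtain ⟨p, -, hp⟩ := Scheme.exists_preimage_of_isPullback (isPullback_whisker φ (G ⊗ C)) x v hx
        exact ⟨p, hp⟩
    haveI : Smooth (G ⊗ C).hom := by
      haveI := hcart.2.2.1
      exact inferInstanceAs (Smooth (pullback.fst G.hom C.hom ≫ G.hom))
    haveI : UniversallyOpen (G ⊗ C).hom := inferInstance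
    haveI : UniversallyOpen (fst G (G ⊗ C)).left :=
      inferInstanceAs (UniversallyOpen (pullback.fst G.hom (G ⊗ C).hom))
    have hmem : sl.left y ∈ closure (Set.range (φ ▷ (G ⊗ C)).left) := by
      rw [hr, ← (fst G (G ⊗ C)).left.isOpenMap.preimage_closure_eq_closure_preimage (fst G (G ⊗ C)).left.continuous]
      show (fst G (G ⊗ C)).left (sl.left y) ∈ Z
      rw [← Scheme.Hom.comp_apply, ← Over.comp_left, show sl ≫ fst G (G ⊗ C) = toUnit _ ≫ η[G] from lift_fst _ _,
        Over.comp_left, Scheme.Hom.comp_apply]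
      convert h1 using 2
    refine closure_minimal ?_ (isClosed_closure.preimage M.left.continuous) hmem
    rintro _ ⟨v, rfl⟩
    show M.left _ ∈ Z
    rw [← Scheme.Hom.comp_apply, ← Over.comp_left]
    let re : X ⊗ (G ⊗ C) ⟶ (X ⊗ C) ⊗ G := lift (lift (fst _ _) (snd _ _ ≫ snd G C)) (snd _ _ ≫ fst G C)
    have e' : (φ ▷ (G ⊗ C)) ≫ M = re ≫ m := by
      simp only [re, m, M, cj, MonObj.comp_mul, GrpObj.comp_inv, whiskerRight_fst, whiskerRight_snd_assoc,
        lift_fst_assoc, lift_snd_assoc, lift_snd, Category.assoc]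
      rfl
    rw [e', Over.comp_left, Scheme.Hom.comp_apply]
    exact hm _
  intro y
  exact closure_minimal (Set.range_subset_iff.2 hcjZ) isClosed_closure (denseRange_cj i hi c hc y)

end Groth.Agent.Unirat
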