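import Groth.Agent.DensePtsGrp.Torus
import Groth.Agent.Unirat.Basic

/-!
# Tori over infinite fields are unirational
-/

set_option autoImplicit false
set_option linter.unusedSectionVars false
set_option linter.style.haveILetI false
set_option backward.isDefEq.respectTransparency false
set_option backward.isDefEq.respectTransparency.types false
set_option maxHeartbeats 1000000
set_option synthInstance.maxHeartbeats 400000

universe u

open CategoryTheory MonoidalCategory CartesianMonoidalCategory AlgebraicGeometry TensorProduct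
open scoped CategoryTheory.Obj CategoryTheory.MonObj

noncomputable section

namespace Groth.Agent.Unirat

open Groth.Agent.TorusChar (Lat g)

variable {k : Type u} [Field k] {N : Type u} [Field N] [Algebra k N] [FiniteDimensional k N] [IsGalois k N] {n : ℕ}
  {R : Type u} [CommRing R] [Algebra k R]

/-- The Galois action on an extension of scalars. -/
abbrev theta (R : Type u) [CommRing R] [Algebra k R] (σ : Gal(N/k)) : N ⊗[k] R →ₐ[k] N ⊗[k] R :=
  Algebra.TensorProduct.map σ.toAlgHom (AlgHom.id k R)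

theorem theta_comp (σ τ : Gal(N/k)) (z : N ⊗[k] R) : theta R σ (theta R τ z) = theta R (σ * τ) z := by
  induction z using TensorProduct.induction_on with
  | zero => simp
  | add u v hu hv => simp only [map_add, hu, hv]
  | tmul c a => rfl

theorem theta_smul (σ : Gal(N/k)) (c : N) (z : N ⊗[k] R) : theta R σ (c • z) = σ c • theta R σ z := by
  induction z using TensorProduct.induction_on with
  | zero => simp
  | add u v hu hv => simp only [smul_add, map_add, hu, hv]
  | tmul d a => simp [TensorProduct.smul_tmul', smul_eq_mul]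

/-- Fixed elements come from the base. -/
theorem exists_of_fixed (z : N ⊗[k] R) (hz : ∀ σ : Gal(N/k), theta R σ z = z) : ∃ r : R, (1 : N) ⊗ₜ[k] r = z := by
  classical
  let c := Module.Basis.ofVectorSpace k R
  let E := TensorProduct.equivFinsuppOfBasisRight (M := N) c
  have hE : ∀ (σ : Gal(N/k)) (w : N ⊗[k] R) i, E (theta R σ w) i = σ (E w i) := fun σ w i => by
    induction w using TensorProduct.induction_on with
    | zero => simp
    | add u v hu hv => simp only [map_add, Finsupp.coe_add, Pi.add_apply, hu, hv]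
    | tmul d a =>
      show E (σ d ⊗ₜ[k] a) i = σ (E (d ⊗ₜ[k] a) i)
      rw [TensorProduct.equivFinsuppOfBasisRight_apply_tmul_apply,
        TensorProduct.equivFinsuppOfBasisRight_apply_tmul_apply, map_smul]
  have hfix : ∀ i, ∃ t : k, algebraMap k N t = E z i := fun i =>
    (IsGalois.mem_range_algebraMap_iff_fixed _).2 fun σ => by rw [← hE, hz]
  choose t ht using hfix
  refine ⟨∑ i ∈ (E z).support, t i • c i, ?_⟩
  conv_rhs => rw [← E.symm_apply_apply z, TensorProduct.equivFinsuppOfBasisRight_symm_apply]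
  rw [TensorProduct.tmul_sum, Finsupp.sum]
  refine Finset.sum_congr rfl fun i _ => ?_
  rw [TensorProduct.tmul_smul, TensorProduct.smul_tmul', Algebra.smul_def, mul_one, ht]

/-- The monomial character of a tuple of units. -/
def monoC (y : Fin n → (N ⊗[k] R)ˣ) : Multiplicative (Fin n → ℤ) →* (N ⊗[k] R)ˣ where
  toFun v := ∏ i, y i ^ Multiplicative.toAdd v i
  map_one' := by simp
  map_mul' v w := by
    rw [← Finset.prod_mul_distrib]
    exact Finset.prod_congr rfl fun i _ => by simp [zpow_add]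

/-- The equivariant character of a tuple of units. -/
def normC (ρ : Gal(N/k) →* Matrix.GeneralLinearGroup (Fin n) ℤ) (y : Fin n → (N ⊗[k] R)ˣ) :
    Multiplicative (Fin n → ℤ) →* (N ⊗[k] R)ˣ :=
  ∏ σ : Gal(N/k), ((Units.map (theta R σ : N ⊗[k] R →* N ⊗[k] R)).comp (monoC y)).comp
    (AddMonoidHom.toMultiplicative
      (Matrix.mulVecLin ((ρ σ⁻¹ : Matrix.GeneralLinearGroup (Fin n) ℤ) : Matrix (Fin n) (Fin n) ℤ)).toAddMonoidHom)

theorem normC_apply (ρ : Gal(N/k) →* Matrix.GeneralLinearGroup (Fin n) ℤ) (y : Fin n → (N ⊗[k] R)ˣ) (v : Fin n → ℤ) :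
    normC ρ y (Multiplicative.ofAdd v) =
      ∏ σ : Gal(N/k), ∏ i, (Units.map (theta R σ : N ⊗[k] R →* N ⊗[k] R) (y i)) ^
        ((ρ σ⁻¹ : Matrix (Fin n) (Fin n) ℤ).mulVec v i) := by
  simp [normC, monoC, MonoidHom.finsetProd_apply, map_prod, map_zpow]

theorem normC_equivariant (ρ : Gal(N/k) →* Matrix.GeneralLinearGroup (Fin n) ℤ) (y : Fin n → (N ⊗[k] R)ˣ)
    (τ : Gal(N/k)) (v : Fin n → ℤ) :
    normC ρ y (Multiplicative.ofAdd ((ρ τ : Matrix (Fin n) (Fin n) ℤ).mulVec v)) =
      Units.map (theta R τ : N ⊗[k] R →* N ⊗[k] R) (normC ρ y (Multiplicative.ofAdd v)) := by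
  rw [normC_apply, normC_apply, map_prod]
  refine (Fintype.prod_equiv (Equiv.mulLeft τ) _ _ fun σ => ?_).symm
  rw [map_prod]
  refine Finset.prod_congr rfl fun i _ => ?_
  rw [map_zpow]
  congr 1
  · refine Units.ext ?_
    show theta R τ (theta R σ _) = theta R (τ * σ) _
    rw [theta_comp]
  · rw [Matrix.mulVec_mulVec, ← Units.val_mul, ← map_mul]
    simp only [Equiv.coe_mulLeft, mul_inv_rev, inv_mul_cancel_right]

/-- The map out of the coordinate ring given by a tuple of units. -/
theorem exists_hom {A : Type u} [CommRing A] [HopfAlgebra k A]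
    (e : N ⊗[k] A ≃ₐc[N] MonoidAlgebra N (Lat.{u} n)) (ρ : Gal(N/k) →* Matrix.GeneralLinearGroup (Fin n) ℤ)
    (hρ : ∀ σ v, MultT.galAct A σ (g e v) = g e ((ρ σ : Matrix (Fin n) (Fin n) ℤ).mulVec v))
    (y : Fin n → (N ⊗[k] R)ˣ) :
    ∃ f : A →ₐ[k] R, ∀ a, (1 : N) ⊗ₜ[k] f a = MonoidAlgebra.lift N (N ⊗[k] R) (Lat.{u} n)
      ((Units.coeHom _).comp ((normC ρ y).comp MulEquiv.ulift.toMonoidHom)) (e ((1 : N) ⊗ₜ[k] a)) := by
  let F : N ⊗[k] A →ₐ[N] N ⊗[k] R :=
    (MonoidAlgebra.lift N (N ⊗[k] R) (Lat.{u} n) ((Units.coeHom _).comp ((normC ρ y).comp MulEquiv.ulift.toMonoidHom))).comp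
      (e : N ⊗[k] A →ₐ[N] MonoidAlgebra N (Lat.{u} n))
  have hFg : ∀ v, F (g e v) = (normC ρ y (Multiplicative.ofAdd v) : N ⊗[k] R) := fun v => by
    show MonoidAlgebra.lift N (N ⊗[k] R) (Lat.{u} n) _ (e (e.symm _)) = _
    rw [e.apply_symm_apply, MonoidAlgebra.lift_single, one_smul]
    rfl
  have hFgal : ∀ (τ : Gal(N/k)) (z : N ⊗[k] A), F (MultT.galAct A τ z) = theta R τ (F z) := by
    intro τ z
    have hgen : ∀ w : MonoidAlgebra N (Lat.{u} n),
        F (MultT.galAct A τ (e.symm w)) = theta R τ (F (e.symm w)) := by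
      intro w
      induction w using MonoidAlgebra.induction_linear with
      | zero => simp
      | add a b ha hb => simp only [map_add, ha, hb]
      | single m r =>
        have h1 : e.symm (MonoidAlgebra.single m r) = r • g e (Multiplicative.toAdd m.down) := by
          rw [TorusChar.g, ← map_smul, MonoidAlgebra.smul_single, smul_eq_mul, mul_one]
          rfl
        rw [h1, show MultT.galAct A τ (r • g e (Multiplicative.toAdd m.down)) =
          τ r • MultT.galAct A τ (g e (Multiplicative.toAdd m.down)) from MultT.chStage_smul _ _ _,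
          map_smul, map_smul, theta_smul, hρ, hFg, hFg, normC_equivariant]
        rfl
    simpa using hgen (e z)
  have hfix : ∀ a : A, ∃ r : R, (1 : N) ⊗ₜ[k] r = F ((1 : N) ⊗ₜ a) := fun a => by
    refine exists_of_fixed _ fun τ => ?_
    rw [← hFgal, show MultT.galAct A τ ((1 : N) ⊗ₜ[k] a) = (1 : N) ⊗ₜ[k] a by simp [MultT.galAct]]
  choose f hf using hfix
  let iR : R →ₐ[k] N ⊗[k] R := Algebra.TensorProduct.includeRight
  have hiR : Function.Injective iR := Algebra.TensorProduct.includeRight_injective (algebraMap k N).injective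
  refine ⟨{
    toFun := f
    map_one' := hiR ?_
    map_mul' := fun a b => hiR ?_
    map_zero' := hiR ?_
    map_add' := fun a b => hiR ?_
    commutes' := fun c => hiR ?_ }, hf⟩
  · show (1 : N) ⊗ₜ[k] f 1 = (1 : N) ⊗ₜ[k] (1 : R)
    rw [hf, show ((1 : N) ⊗ₜ[k] (1 : A)) = 1 from rfl, map_one]
    rfl
  · show (1 : N) ⊗ₜ[k] f (a * b) = (1 : N) ⊗ₜ[k] (f a * f b)
    rw [hf, show ((1 : N) ⊗ₜ[k] (a * b)) = ((1 : N) ⊗ₜ[k] a) * ((1 : N) ⊗ₜ[k] b) by simp, map_mul, ← hf, ← hf]
    simp
  · show (1 : N) ⊗ₜ[k] f 0 = (1 : N) ⊗ₜ[k] (0 : R)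
    rw [hf, TensorProduct.tmul_zero, map_zero, TensorProduct.tmul_zero]
  · show (1 : N) ⊗ₜ[k] f (a + b) = (1 : N) ⊗ₜ[k] (f a + f b)
    rw [hf, TensorProduct.tmul_add, map_add, ← hf, ← hf, TensorProduct.tmul_add]
  · show (1 : N) ⊗ₜ[k] f (algebraMap k A c) = (1 : N) ⊗ₜ[k] algebraMap k R c
    have h1 : ∀ (X : Type u) [CommRing X] [Algebra k X],
        (1 : N) ⊗ₜ[k] algebraMap k X c = algebraMap N (N ⊗[k] X) (algebraMap k N c) := fun X _ _ => by
      rw [Algebra.TensorProduct.algebraMap_apply, Algebra.algebraMap_self_apply,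
        Algebra.algebraMap_eq_smul_one, Algebra.algebraMap_eq_smul_one, TensorProduct.smul_tmul]
    rw [hf, h1, h1, AlgHom.commutes]

/-- The coordinate ring of a torus over an infinite field embeds into a rational function ring. -/
theorem exists_embed [Infinite k] {A : Type u} [CommRing A] [HopfAlgebra k A]
    (e : N ⊗[k] A ≃ₐc[N] MonoidAlgebra N (Lat.{u} n)) :
    ∃ (h : MvPolynomial (Fin (Module.finrank k N) × Fin n) k), h ≠ 0 ∧
      ∃ f : A →ₐ[k] Localization.Away h, Function.Injective f := by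
  classical
  obtain ⟨ρ, hρ⟩ := TorusChar.exists_action e
  let b := Module.finBasis k N
  let P := MvPolynomial (Fin (Module.finrank k N) × Fin n) k
  let y₀ : Fin n → N ⊗[k] P := fun i => ∑ j, b j ⊗ₜ[k] MvPolynomial.X (j, i)
  have hπ : ∀ i, ∃ hh : P, (1 : N) ⊗ₜ[k] hh = ∏ σ : Gal(N/k), theta P σ (y₀ i) := fun i => by
    refine exists_of_fixed _ fun τ => ?_
    rw [map_prod]
    exact Fintype.prod_equiv (Equiv.mulLeft τ) _ _ fun σ => theta_comp τ σ _
  choose hh hhh using hπ
  -- evaluation at the tuple of coordinates of a tuple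
  let wy : (Fin n → N) → Fin (Module.finrank k N) × Fin n → k := fun y p => b.repr (y p.2) p.1
  let EvP : (Fin n → N) → N ⊗[k] P →ₐ[k] N := fun y =>
    Algebra.TensorProduct.lift (AlgHom.id k N) ((Algebra.ofId k N).comp (MvPolynomial.aeval (wy y)))
      fun _ _ => Commute.all _ _
  have hEvθ : ∀ y (σ : Gal(N/k)) z, EvP y (theta P σ z) = σ (EvP y z) := fun y σ z => by
    induction z using TensorProduct.induction_on with
    | zero => simp
    | add u v hu hv => simp only [map_add, hu, hv]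
    | tmul c a => simp [EvP]
  have hEvy : ∀ y i, EvP y (y₀ i) = y i := fun y i => by
    simp only [y₀, map_sum, EvP, Algebra.TensorProduct.lift_tmul]
    refine Eq.trans (Finset.sum_congr rfl fun j _ => ?_) (b.sum_repr (y i))
    simp [wy, P, Algebra.smul_def, Algebra.ofId_apply, mul_comm, MvPolynomial.aeval_X]
  let h : P := ∏ i, hh i
  have hh_eval : ∀ y, (∀ i, y i ≠ 0) → MvPolynomial.aeval (wy y) h ≠ 0 := fun y hy => by
    rw [map_prod]
    refine Finset.prod_ne_zero_iff.2 fun i _ h0 => ?_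
    have h1 : EvP y ((1 : N) ⊗ₜ[k] hh i) = 0 := by
      show (1 : N) * algebraMap k N (MvPolynomial.aeval (wy y) (hh i)) = 0
      rw [h0, map_zero, mul_zero]
    rw [hhh, map_prod] at h1
    obtain ⟨σ, -, hσ⟩ := Finset.prod_eq_zero_iff.1 h1
    rw [hEvθ, hEvy] at hσ
    exact hy i ((map_eq_zero σ).1 hσ)
  have h0 : h ≠ 0 := fun e0 => hh_eval (fun _ => 1) (fun _ => one_ne_zero) (by rw [e0, map_zero])
  refine ⟨h, h0, ?_⟩
  let L := Localization.Away h
  let loc : N ⊗[k] P →ₐ[k] N ⊗[k] L :=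
    Algebra.TensorProduct.map (AlgHom.id k N) (IsScalarTower.toAlgHom k P L)
  have hlocθ : ∀ (σ : Gal(N/k)) z, loc (theta P σ z) = theta L σ (loc z) := fun σ z => by
    induction z using TensorProduct.induction_on with
    | zero => simp
    | add u v hu hv => simp only [map_add, hu, hv]
    | tmul c a => rfl
  have hyu : ∀ i, IsUnit (loc (y₀ i)) := fun i => by
    have h1 : IsUnit (loc ((1 : N) ⊗ₜ[k] h)) :=
      (IsLocalization.Away.algebraMap_isUnit (S := L) h).map
        (Algebra.TensorProduct.includeRight (R := k) (A := N) (B := L))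
    have h2 : (1 : N) ⊗ₜ[k] h = Algebra.TensorProduct.includeRight (R := k) (A := N) (B := P) h := rfl
    rw [h2, map_prod, map_prod] at h1
    have h3 := IsUnit.prod_univ_iff.1 h1 i
    rw [Algebra.TensorProduct.includeRight_apply, hhh, map_prod] at h3
    have h4 := IsUnit.prod_univ_iff.1 h3 1
    have h5 : theta P (1 : Gal(N/k)) (y₀ i) = y₀ i := by simp [theta, y₀, map_sum]
    rwa [h5] at h4
  let y : Fin n → (N ⊗[k] L)ˣ := fun i => (hyu i).unit
  obtain ⟨f, hfF⟩ := exists_hom e ρ hρ y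
  refine ⟨f, (injective_iff_map_eq_zero f).2 fun a ha => ?_⟩
  have hFa : MonoidAlgebra.lift N (N ⊗[k] L) (Lat.{u} n)
      ((Units.coeHom _).comp ((normC ρ y).comp MulEquiv.ulift.toMonoidHom)) (e ((1 : N) ⊗ₜ[k] a)) = 0 := by
    rw [← hfF, ha, TensorProduct.tmul_zero]
  by_contra ha0
  -- the polynomial
  let fc := e ((1 : N) ⊗ₜ[k] a)
  have hf : fc ≠ 0 := fun hz => ha0 (Algebra.TensorProduct.includeRight_injective (A := N) (algebraMap k N).injective
    (show (1 : N) ⊗ₜ[k] a = (1 : N) ⊗ₜ[k] (0 : A) by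
      rw [TensorProduct.tmul_zero]; exact EquivLike.injective e (hz.trans (map_zero e).symm)))
  let E : Lat.{u} n → Gal(N/k) × Fin n → ℤ := fun m p =>
    (ρ p.1⁻¹ : Matrix (Fin n) (Fin n) ℤ).mulVec (Multiplicative.toAdd m.down) p.2
  let M : ℤ := ∑ m ∈ fc.coeff.support, ∑ p, |E m p|
  have hM : ∀ m ∈ fc.coeff.support, ∀ p, 0 ≤ E m p + M := fun m hm p => by
    have h1 := Finset.single_le_sum (f := fun m => ∑ p, |E m p|) (fun _ _ => Finset.sum_nonneg fun _ _ => abs_nonneg _) hm
    have h2 := Finset.single_le_sum (f := fun p => |E m p|) (fun _ _ => abs_nonneg _) (Finset.mem_univ p)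
    have h3 := neg_abs_le (E m p)
    linarith
  let d : Lat.{u} n → (Gal(N/k) × Fin n →₀ ℕ) := fun m =>
    Finsupp.equivFunOnFinite.symm fun p => (E m p + M).toNat + 1
  let Q : MvPolynomial (Gal(N/k) × Fin n) N := ∑ m ∈ fc.coeff.support, MvPolynomial.monomial (d m) (fc.coeff m)
  have hQ : Q ≠ 0 := by
    obtain ⟨m₀, hm₀⟩ : fc.coeff.support.Nonempty := by
      rw [Finsupp.support_nonempty_iff]
      exact fun hz => hf (MonoidAlgebra.coeff_injective (hz.trans MonoidAlgebra.coeff_zero.symm))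
    intro hz
    have h1 := congrArg (MvPolynomial.coeff (d m₀)) hz
    rw [MvPolynomial.coeff_sum, MvPolynomial.coeff_zero, Finset.sum_eq_single_of_mem m₀ hm₀] at h1
    · simp at h1
      exact (Finsupp.mem_support_iff.1 hm₀) h1
    · intro m hm hne
      rw [MvPolynomial.coeff_monomial, if_neg]
      intro hd
      refine hne (ULift.ext _ _ (Multiplicative.toAdd.injective (funext fun i => ?_)))
      have h2 := DFunLike.congr_fun hd ((1 : Gal(N/k)), i)
      simp only [d, Finsupp.coe_equivFunOnFinite_symm, add_left_inj] at h2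
      have h3 : E m (1, i) = E m₀ (1, i) := by
        have e1 := hM m hm (1, i)
        have e2 := hM m₀ hm₀ (1, i)
        omega
      simpa [E] using h3
  obtain ⟨z, hz⟩ := DensePtsGrp.exists_eval_conj Q hQ
  have hevalQ : ∀ w : Gal(N/k) × Fin n → N, MvPolynomial.eval w Q =
      ∑ m ∈ fc.coeff.support, fc.coeff m * ∏ p, w p ^ ((E m p + M).toNat + 1) := fun w => by
    simp only [Q, map_sum, MvPolynomial.eval_monomial, Finsupp.prod_pow]
    rfl
  rw [hevalQ] at hz
  have hz0 : ∀ i, z i ≠ 0 := fun i hi0 => hz (Finset.sum_eq_zero fun m _ => by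
    rw [Finset.prod_eq_zero (i := ((1 : Gal(N/k)), i)) (Finset.mem_univ _) (by simp [hi0]), mul_zero])
  let ev : L →ₐ[k] k := IsLocalization.liftAlgHom (M := Submonoid.powers h) (f := MvPolynomial.aeval (wy z))
    (fun t => by
      obtain ⟨j, hj⟩ := t.2
      rw [← hj, map_pow]
      exact (isUnit_iff_ne_zero.2 (hh_eval z hz0)).pow j)
  let Ev : N ⊗[k] L →ₐ[N] N :=
    Algebra.TensorProduct.lift (AlgHom.id N N) ((Algebra.ofId k N).comp ev) fun _ _ => Commute.all _ _
  have hEvloc : ∀ w, Ev (loc w) = EvP z w := fun w => by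
    induction w using TensorProduct.induction_on with
    | zero => simp
    | add u v hu hv => simp only [map_add, hu, hv]
    | tmul c p =>
      show c * algebraMap k N (ev (algebraMap P L p)) = c * algebraMap k N (MvPolynomial.aeval (wy z) p)
      rw [show ev (algebraMap P L p) = MvPolynomial.aeval (wy z) p from IsLocalization.lift_eq _ _]
  have hchar : ∀ v, Ev (normC ρ y (Multiplicative.ofAdd v) : N ⊗[k] L) =
      ∏ p : Gal(N/k) × Fin n, p.1 (z p.2) ^ ((ρ p.1⁻¹ : Matrix (Fin n) (Fin n) ℤ).mulVec v p.2) := fun v => by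
    show ((Units.map (Ev : N ⊗[k] L →* N)) (normC ρ y (Multiplicative.ofAdd v)) : N) = _
    rw [normC_apply, map_prod, Units.coe_prod, Fintype.prod_prod_type]
    refine Finset.prod_congr rfl fun σ _ => ?_
    rw [map_prod, Units.coe_prod]
    refine Finset.prod_congr rfl fun i _ => ?_
    rw [map_zpow, Units.val_zpow_eq_zpow_val]
    congr 1
    show Ev (theta L σ (loc (y₀ i))) = _
    rw [← hlocθ, hEvloc, hEvθ, hEvy]
  have h1 : Ev (MonoidAlgebra.lift N (N ⊗[k] L) (Lat.{u} n)
      ((Units.coeHom _).comp ((normC ρ y).comp MulEquiv.ulift.toMonoidHom)) fc) = ∑ m ∈ fc.coeff.support, fc.coeff m * ∏ p : Gal(N/k) × Fin n, p.1 (z p.2) ^ E m p := by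
    rw [MonoidAlgebra.lift_apply, Finsupp.sum, map_sum]
    refine Finset.sum_congr rfl fun m _ => ?_
    rw [map_smul, smul_eq_mul]
    congr 1
    exact hchar _
  rw [hFa, map_zero] at h1
  refine hz ?_
  have hfac : ∀ m ∈ fc.coeff.support, (∏ p : Gal(N/k) × Fin n, p.1 (z p.2) ^ ((E m p + M).toNat + 1)) =
      (∏ p : Gal(N/k) × Fin n, p.1 (z p.2) ^ E m p) * ∏ p : Gal(N/k) × Fin n, p.1 (z p.2) ^ (M + 1) := fun m hm => by
    rw [← Finset.prod_mul_distrib]
    refine Finset.prod_congr rfl fun p _ => ?_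
    rw [← zpow_natCast, ← zpow_add₀ ((map_ne_zero p.1).2 (hz0 p.2))]
    congr 1
    push_cast [Int.toNat_of_nonneg (hM m hm p)]
    ring
  rw [Finset.sum_congr rfl fun m hm => by rw [hfac m hm, ← mul_assoc], ← Finset.sum_mul, ← h1, zero_mul]

/-- **Tori over infinite fields are unirational.** -/
theorem unirat_torus [Infinite k] (T : Over (Spec (CommRingCat.of k))) [GrpObj T] (hT : Red.IsTorus T) : Unirat T := by
  obtain ⟨L, _, _, w, r, hs⟩ := Chev.exists_split_of_isTorus hT
  obtain ⟨φ, rfl⟩ := Spec.map_surjective w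
  letI : Algebra k L := φ.hom.toAlgebra
  obtain ⟨A, _, _, ⟨i⟩, N, _, _, _, _, ⟨eN⟩⟩ :=
    TorusChar.exists_galois_split (n := r) T ⟨L, inferInstance, φ.hom.toAlgebra, hs⟩
  let fi : (Spec (CommRingCat.of A)).asOver (Spec (CommRingCat.of k)) ⟶ T := i.inv.hom.hom
  haveI : IsIso fi := ((Grp.forget _).mapIso i.symm).isIso_hom
  haveI : IsIso fi.left := inferInstanceAs (IsIso ((Over.forget _).map fi))
  obtain ⟨h, h0, f, hf⟩ := exists_embed eN
  exact of_denseRange fi fi.left.surjective.denseRange (of_injective' h h0 f hf)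

end Groth.Agent.Unirat
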